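import Groth.Agent.AssSch12.Primary
import Groth.Agent.Flatn12.PullbackSections
import Groth.Agent.EGA43.InjFibre.Scheme
import Mathlib.AlgebraicGeometry.Morphisms.Flat
import Mathlib.AlgebraicGeometry.Morphisms.QuasiCompact

/-!
# Descent of coherence along faithfully flat quasi-compact morphisms
-/

set_option autoImplicit false

universe u

open CategoryTheory CategoryTheory.Limits AlgebraicGeometry TopologicalSpace Opposite TensorProduct

namespace Groth.Agent.ZClosLib

/-- A module is finite if it becomes finite after a jointly surjective finite family of flat extensions. -/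
theorem finite_of_flat_family {A : Type u} [CommRing A] {κ : Type} [Fintype κ] (B : κ → Type u)
    [∀ k, CommRing (B k)] [∀ k, Algebra A (B k)] [∀ k, Module.Flat A (B k)]
    (hsurj : ∀ p : Ideal A, p.IsMaximal → ∃ (k : κ) (q : Ideal (B k)), q.IsPrime ∧ q.comap (algebraMap A (B k)) = p)
    (M : Type u) [AddCommGroup M] [Module A M] [hfin : ∀ k, Module.Finite (B k) (B k ⊗[A] M)] :
    Module.Finite A M := by
  classical
  have hgen : ∀ k, ∃ S : Finset M, Submodule.span (B k) ((fun m => (1 : B k) ⊗ₜ[A] m) '' (S : Set M)) = ⊤ := by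
    intro k
    obtain ⟨G, hG⟩ := (hfin k).fg_top
    have hrep : ∀ z : B k ⊗[A] M, ∃ S : Finset M,
        z ∈ Submodule.span (B k) ((fun m => (1 : B k) ⊗ₜ[A] m) '' (S : Set M)) := by
      intro z
      induction z using TensorProduct.induction_on with
      | zero => exact ⟨∅, zero_mem _⟩
      | tmul b m =>
        refine ⟨{m}, ?_⟩
        rw [show b ⊗ₜ[A] m = b • ((1 : B k) ⊗ₜ[A] m) by rw [TensorProduct.smul_tmul', smul_eq_mul, mul_one]]
        exact Submodule.smul_mem _ _ (Submodule.subset_span ⟨m, by simp, rfl⟩)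
      | add x y hx hy =>
        obtain ⟨S, hS⟩ := hx
        obtain ⟨T, hT⟩ := hy
        exact ⟨S ∪ T, add_mem (Submodule.span_mono (Set.image_mono (by simp)) hS)
          (Submodule.span_mono (Set.image_mono (by simp)) hT)⟩
    choose S hS using hrep
    refine ⟨G.biUnion S, top_le_iff.1 (hG.ge.trans (Submodule.span_le.2 fun z hz => ?_))⟩
    exact Submodule.span_mono (Set.image_mono fun m hm => Finset.mem_coe.2 (Finset.mem_biUnion.2 ⟨z, hz, hm⟩)) (hS z)
  choose S hS using hgen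
  refine ⟨⟨Finset.univ.biUnion S, ?_⟩⟩
  set N := Submodule.span A ((Finset.univ.biUnion S : Finset M) : Set M) with hN
  refine top_le_iff.1 fun m _ => ?_
  by_contra hm
  have hI : N.colon {m} ≠ ⊤ := fun h => hm (by
    have := (Submodule.mem_colon_singleton (N := N) (x := m) (r := (1 : A))).1 (h ▸ Submodule.mem_top)
    rwa [one_smul] at this)
  obtain ⟨p, hp, hle⟩ := Ideal.exists_le_maximal _ hI
  obtain ⟨k, q, hq, hqp⟩ := hsurj p hp
  let φ : A ⧸ N.colon {m} →ₗ[A] M ⧸ N := Submodule.liftQ _ (LinearMap.toSpanSingleton A _ (Submodule.Quotient.mk m))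
    fun a ha => by
      rw [Submodule.mem_colon_singleton] at ha
      rw [LinearMap.mem_ker, LinearMap.toSpanSingleton_apply, ← Submodule.Quotient.mk_smul,
        Submodule.Quotient.mk_eq_zero]
      exact ha
  have hφ : Function.Injective φ := LinearMap.ker_eq_bot.1 (Submodule.ker_liftQ_eq_bot _ _ _ fun a ha => by
    rw [LinearMap.mem_ker, LinearMap.toSpanSingleton_apply, ← Submodule.Quotient.mk_smul,
      Submodule.Quotient.mk_eq_zero] at ha
    exact Submodule.mem_colon_singleton.2 ha)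
  have hzero : ∀ z : B k ⊗[A] (M ⧸ N), z = 0 := by
    intro z
    have hq0 : ∀ z : B k ⊗[A] M, (N.mkQ).baseChange (B k) z = 0 := fun z => by
      have hz : z ∈ Submodule.span (B k) ((fun m => (1 : B k) ⊗ₜ[A] m) '' (S k : Set M)) := (hS k).ge trivial
      induction hz using Submodule.span_induction with
      | mem z hz =>
        obtain ⟨n, hn, rfl⟩ := hz
        rw [LinearMap.baseChange_tmul, Submodule.mkQ_apply, (Submodule.Quotient.mk_eq_zero N).2
          (Submodule.subset_span (Finset.mem_coe.2 (Finset.mem_biUnion.2 ⟨k, Finset.mem_univ _, hn⟩))),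
          TensorProduct.tmul_zero]
      | zero => exact map_zero _
      | add x y _ _ hx hy => rw [map_add, hx, hy, add_zero]
      | smul r x _ hx => rw [map_smul, hx, smul_zero]
    obtain ⟨w, rfl⟩ := LinearMap.lTensor_surjective (B k) N.mkQ_surjective z
    exact hq0 w
  have h1 : (1 : B k) ⊗ₜ[A] (Submodule.Quotient.mk (1 : A) : A ⧸ N.colon {m}) = 0 :=
    Module.Flat.lTensor_preserves_injective_linearMap φ hφ ((hzero _).trans (map_zero _).symm)
  have h2 : (1 : B k) ∈ (N.colon {m}).map (algebraMap A (B k)) := by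
    have e := congrArg (TensorProduct.tensorQuotEquivQuotSMul (B k) (N.colon {m})) h1
    rw [map_zero, show (Submodule.Quotient.mk (1 : A) : A ⧸ N.colon {m}) = Ideal.Quotient.mk _ 1 from rfl,
      TensorProduct.tensorQuotEquivQuotSMul_tmul_mk, one_smul, Submodule.Quotient.mk_eq_zero, Ideal.smul_top_eq_map,
      Submodule.restrictScalars_mem] at e
    exact e
  exact hq.ne_top ((Ideal.eq_top_iff_one q).2 (Ideal.map_le_iff_le_comap.2 (hle.trans hqp.ge) h2))

variable {X X' : Scheme.{u}} (f : X' ⟶ X)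

/-- Coherence ascends along pullback. -/
theorem isCoh_pullback (H : X.Modules) (hH : Coh.IsCoh H) : Coh.IsCoh ((Scheme.Modules.pullback f).obj H) := by
  haveI := hH.1
  let κ : Type u := {p : X'.affineOpens × X.affineOpens // (p.1 : X'.Opens) ≤ f ⁻¹ᵁ (p.2 : X.Opens)}
  refine Coherent.isCoh_of_finite_sections_cover _ (EGA43.InjFibre.isQCoh_pullback f H)
    (fun p : κ => p.1.1.1) (fun p => p.1.1.2) (fun x => ?_) fun p => ?_
  · obtain ⟨V, hV, hxV, -⟩ := exists_isAffineOpen_mem_and_subset (x := f x) (U := (⊤ : X.Opens)) trivial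
    obtain ⟨W, hW, hxW, hWV⟩ := exists_isAffineOpen_mem_and_subset (x := x) (U := f ⁻¹ᵁ V) hxV
    exact ⟨⟨(⟨W, hW⟩, ⟨V, hV⟩), hWV⟩, hxW⟩
  · letI := (f.appLE p.1.2.1 p.1.1.1 p.2).hom.toAlgebra
    obtain ⟨e⟩ := Flatn12.nonempty_pullback_sections_equiv f H p.1.2.2 p.1.1.2 p.2
    haveI := ((Coherent.isCoh_iff_finite_sections H).1 hH).2 p.1.2.1 p.1.2.2
    exact Module.Finite.equiv e

/-- Coherence descends along faithfully flat quasi-compact morphisms. -/
theorem isCoh_of_pullback [Flat f] [Surjective f] [QuasiCompact f] (H : X.Modules) (hq : Coh.IsQCoh H)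
    (hH : Coh.IsCoh ((Scheme.Modules.pullback f).obj H)) : Coh.IsCoh H := by
  classical
  haveI := hq
  refine (Coherent.isCoh_iff_finite_sections H).2 ⟨hq, fun V hV => ?_⟩
  have hc : IsCompact ((f ⁻¹ᵁ V : X'.Opens) : Set X') :=
    QuasiCompact.isCompact_preimage (f := f) (V : Set X) V.2 hV.isCompact
  have hloc : ∀ x : ((f ⁻¹ᵁ V : X'.Opens) : Set X'), ∃ W : X'.Opens, IsAffineOpen W ∧ x.1 ∈ W ∧ W ≤ f ⁻¹ᵁ V :=
    fun x => by
    obtain ⟨W, hW, hxW, hWV⟩ := exists_isAffineOpen_mem_and_subset (x := x.1) (U := f ⁻¹ᵁ V) x.2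
    exact ⟨W, hW, hxW, hWV⟩
  choose W hW hxW hWV using hloc
  obtain ⟨t, ht⟩ := hc.elim_finite_subcover (fun x => (W x : Set X')) (fun x => (W x).2)
    fun x hx => Set.mem_iUnion.2 ⟨⟨x, hx⟩, hxW _⟩
  let w : Fin t.card → ((f ⁻¹ᵁ V : X'.Opens) : Set X') := fun i => (t.equivFin.symm i).1
  letI : ∀ i, Algebra Γ(X, V) Γ(X', W (w i)) := fun i => (f.appLE V (W (w i)) (hWV _)).hom.toAlgebra
  haveI : ∀ i, Module.Flat Γ(X, V) Γ(X', W (w i)) := fun i => f.flat_appLE hV (hW _) (hWV _)
  haveI : ∀ i, Module.Finite Γ(X', W (w i)) (Γ(X', W (w i)) ⊗[Γ(X, V)] Γ(H, V)) := fun i => by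
    obtain ⟨e⟩ := Flatn12.nonempty_pullback_sections_equiv f H hV (hW (w i)) (hWV _)
    haveI := ((Coherent.isCoh_iff_finite_sections _).1 hH).2 (W (w i)) (hW _)
    exact Module.Finite.equiv e.symm
  refine finite_of_flat_family (fun i => Γ(X', W (w i))) (fun p hp => ?_) Γ(H, V)
  haveI := hp.isPrime
  obtain ⟨y, hy, rfl⟩ := AssSch12.exists_point hV p
  obtain ⟨y', rfl⟩ := (inferInstance : Surjective f).surj y
  obtain ⟨x, hx, hyx⟩ := Set.mem_iUnion₂.1 (ht (show y' ∈ f ⁻¹ᵁ V from hy))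
  obtain ⟨i, rfl⟩ : ∃ i, w i = x := ⟨t.equivFin ⟨x, hx⟩, congrArg Subtype.val (t.equivFin.symm_apply_apply ⟨x, hx⟩)⟩
  refine ⟨i, ((hW (w i)).primeIdealOf ⟨y', hyx⟩).asIdeal, ((hW (w i)).primeIdealOf ⟨y', hyx⟩).2, ?_⟩
  exact congrArg PrimeSpectrum.asIdeal
    (IsAffineOpen.comap_primeIdealOf_appLE (f := f) V hV (W (w i)) (hW _) (hWV _) hyx)

end Groth.Agent.ZClosLib
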