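import Groth.Agent.DerCompLib.RestrAdj
import Mathlib.AlgebraicGeometry.Modules.Sheaf
import Mathlib.AlgebraicGeometry.Noetherian
import Mathlib.Topology.Sheaves.Skyscraper
import Mathlib.CategoryTheory.Limits.ConcreteCategory.Basic

/-!
# Sections of filtered colimits of modules over Noetherian opens
-/

set_option autoImplicit false

universe u

open CategoryTheory CategoryTheory.Limits AlgebraicGeometry TopologicalSpace Opposite

namespace Groth.Agent.ZClosLib

variable {X : Scheme.{u}}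

/-- Restriction of sections. -/
noncomputable abbrev res (F : X.Modules) {W W' : X.Opens} (h : W' ≤ W) (s : Γ(F, W)) : Γ(F, W') :=
  F.presheaf.map (homOfLE h).op s

theorem res_res (F : X.Modules) {W W' W'' : X.Opens} (h : W' ≤ W) (h' : W'' ≤ W') (s : Γ(F, W)) :
    res F h' (res F h s) = res F (h'.trans h) s :=
  (Functor.map_comp_apply _ _ _ _).symm

theorem germ_res (F : X.Modules) {W W' : X.Opens} (h : W' ≤ W) (s : Γ(F, W)) (x : X) (hx : x ∈ W') :
    F.presheaf.germ W' x hx (res F h s) = F.presheaf.germ W x (h hx) s :=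
  TopCat.Presheaf.germ_res_apply _ _ _ _ _

theorem app_res {F G : X.Modules} (φ : F ⟶ G) {W W' : X.Opens} (h : W' ≤ W) (s : Γ(F, W)) :
    φ.app W' (res F h s) = res G h (φ.app W s) :=
  congr($(φ.mapPresheaf.naturality (homOfLE h).op) s)

/-- Sections which agree locally agree. -/
theorem eq_of_local (F : X.Modules) {W : X.Opens} (s t : Γ(F, W))
    (h : ∀ x ∈ W, ∃ (W' : X.Opens) (hle : W' ≤ W), x ∈ W' ∧ res F hle s = res F hle t) : s = t := by
  choose V hle hx he using h
  exact TopCat.Sheaf.eq_of_locally_eq' ⟨F.presheaf, F.isSheaf⟩ (fun x : W => V x.1 x.2) W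
    (fun x => homOfLE (hle x.1 x.2)) (fun x hx' => Opens.mem_iSup.2 ⟨⟨x, hx'⟩, hx x hx'⟩) s t
    fun x => he x.1 x.2

/-- Sections with the same germs agree. -/
theorem eq_of_germ (F : X.Modules) {W : X.Opens} (s t : Γ(F, W))
    (h : ∀ (x : X) (hx : x ∈ W), F.presheaf.germ W x hx s = F.presheaf.germ W x hx t) : s = t := by
  refine eq_of_local F s t fun x hx => ?_
  obtain ⟨V, hxV, i, j, e⟩ := F.presheaf.germ_eq x hx hx s t (h x hx)
  exact ⟨V, leOfHom i, hxV, e⟩

variable {J : Type u} [SmallCategory J] [IsFiltered J] {K : J ⥤ X.Modules} {c : Cocone K}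

variable (X) in
/-- The stalk functor on modules. -/
noncomputable def stalkFun (x : X) : X.Modules ⥤ Ab.{u} :=
  SheafOfModules.toSheaf.{u} X.ringCatSheaf ⋙
    (TopCat.Sheaf.forget Ab.{u} X.toTopCat ⋙ TopCat.Presheaf.stalkFunctor Ab.{u} x)

theorem preservesColimitsOfShape_stalkFun (J : Type u) [SmallCategory J] (x : X) :
    PreservesColimitsOfShape J (stalkFun X x) := by
  have h1 : PreservesColimitsOfShape J (SheafOfModules.toSheaf.{u} X.ringCatSheaf) :=
    DerCompLib.preservesColimitsOfShape_toSheaf (O := X.sheaf) J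
  have h2 : PreservesColimitsOfShape J
      (TopCat.Sheaf.forget Ab.{u} X.toTopCat ⋙ TopCat.Presheaf.stalkFunctor Ab.{u} x) :=
    inferInstance
  exact ⟨fun {K} => ⟨fun {c} hc => ⟨isColimitOfPreserves
    (TopCat.Sheaf.forget Ab.{u} X.toTopCat ⋙ TopCat.Presheaf.stalkFunctor Ab.{u} x)
    (isColimitOfPreserves (SheafOfModules.toSheaf.{u} X.ringCatSheaf) hc)⟩⟩⟩

noncomputable def isColimitStalk (hc : IsColimit c) (x : X) : IsColimit ((stalkFun X x).mapCocone c) :=
  haveI := preservesColimitsOfShape_stalkFun J x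
  isColimitOfPreserves (stalkFun X x) hc

/-- The map induced on stalks. -/
noncomputable abbrev stalkMap {F G : X.Modules} (φ : F ⟶ G) (x : X) :
    F.presheaf.stalk x ⟶ G.presheaf.stalk x :=
  (TopCat.Presheaf.stalkFunctor Ab.{u} x).map φ.mapPresheaf

theorem stalkMap_germ {F G : X.Modules} (φ : F ⟶ G) (x : X) {W : X.Opens} (hx : x ∈ W) (s : Γ(F, W)) :
    stalkMap φ x (F.presheaf.germ W x hx s) = G.presheaf.germ W x hx (φ.app W s) :=
  TopCat.Presheaf.stalkFunctor_map_germ_apply W x hx φ.mapPresheaf s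

theorem stalkMap_comp_apply {F G H : X.Modules} (φ : F ⟶ G) (ψ : G ⟶ H) (x : X) (z : F.presheaf.stalk x) :
    stalkMap (φ ≫ ψ) x z = stalkMap ψ x (stalkMap φ x z) := by
  obtain ⟨W, hx, s, rfl⟩ := F.presheaf.exists_germ_eq z
  rw [stalkMap_germ, stalkMap_germ, stalkMap_germ]
  rfl

theorem stalkMap_id_apply {F : X.Modules} (x : X) (z : F.presheaf.stalk x) :
    stalkMap (𝟙 F) x z = z := by
  obtain ⟨W, hx, s, rfl⟩ := F.presheaf.exists_germ_eq z
  rw [stalkMap_germ]
  rfl

/-- Every germ of the colimit comes from a stage. -/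
theorem exists_stalk_rep (hc : IsColimit c) (x : X) (z : c.pt.presheaf.stalk x) :
    ∃ (j : J) (y : (K.obj j).presheaf.stalk x), stalkMap (c.ι.app j) x y = z :=
  Concrete.isColimit_exists_rep _ (isColimitStalk hc x) z

/-- A germ killed in the colimit is killed at some stage. -/
theorem exists_stalk_zero (hc : IsColimit c) (x : X) {j : J} (y : (K.obj j).presheaf.stalk x)
    (h : stalkMap (c.ι.app j) x y = 0) : ∃ (k : J) (f : j ⟶ k), stalkMap (K.map f) x y = 0 := by
  obtain ⟨k, f, g, e⟩ := Concrete.isColimit_exists_of_rep_eq (K ⋙ stalkFun X x) (isColimitStalk hc x) y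
    (0 : (K.obj j).presheaf.stalk x) (h.trans (map_zero _).symm)
  exact ⟨k, f, e.trans (map_zero _)⟩

omit [IsFiltered J] in
theorem ι_map (c : Cocone K) {j k : J} (f : j ⟶ k) {W : X.Opens} (s : Γ(K.obj j, W)) :
    (c.ι.app k).app W ((K.map f).app W s) = (c.ι.app j).app W s := by
  rw [← c.w f, Scheme.Modules.Hom.comp_app]
  rfl

/-- A section over a quasi-compact open killed in the colimit is killed at some stage. -/
theorem exists_zero (hc : IsColimit c) {V : X.Opens} (hV : IsCompact (V : Set X)) {j : J}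
    (s : Γ(K.obj j, V)) (h : (c.ι.app j).app V s = 0) :
    ∃ (k : J) (f : j ⟶ k), (K.map f).app V s = 0 := by
  classical
  have hloc : ∀ x : (V : Set X), ∃ (k : J) (f : j ⟶ k) (W : X.Opens) (hW : W ≤ V),
      x.1 ∈ W ∧ res (K.obj k) hW ((K.map f).app V s) = 0 := by
    rintro ⟨x, hx⟩
    obtain ⟨k, f, e⟩ := exists_stalk_zero hc x ((K.obj j).presheaf.germ V x hx s)
      (by rw [stalkMap_germ, h, map_zero])
    rw [stalkMap_germ, ← map_zero ((K.obj k).presheaf.germ V x hx).hom] at e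
    obtain ⟨W, hxW, i, i', e'⟩ := (K.obj k).presheaf.germ_eq x hx hx _ _ e
    exact ⟨k, f, W, leOfHom i, hxW, e'.trans (map_zero _)⟩
  choose k f W hW hxW hz using hloc
  obtain ⟨t, ht⟩ := hV.elim_finite_subcover (fun x => (W x : Set X)) (fun x => (W x).2)
    fun x hx => Set.mem_iUnion.2 ⟨⟨x, hx⟩, hxW _⟩
  -- a common stage
  have stage : ∀ t : Finset (V : Set X), ∃ (l : J) (g : j ⟶ l), ∀ x ∈ t, res (K.obj l) (hW x) ((K.map g).app V s) = 0 := by
    intro t
    induction t using Finset.induction_on with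
    | empty => exact ⟨j, 𝟙 j, by simp⟩
    | insert x t _ ih =>
      obtain ⟨l, g, hl⟩ := ih
      obtain ⟨m, b₁, b₂, hb⟩ := IsFiltered.span g (f x)
      refine ⟨m, g ≫ b₁, fun y hy => ?_⟩
      rcases Finset.mem_insert.1 hy with rfl | hy
      · rw [hb, K.map_comp, Scheme.Modules.Hom.comp_app]
        show res _ _ ((K.map b₂).app V ((K.map (f y)).app V s)) = 0
        rw [← app_res, hz, map_zero]
      · rw [K.map_comp, Scheme.Modules.Hom.comp_app]
        show res _ _ ((K.map b₁).app V ((K.map g).app V s)) = 0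
        rw [← app_res, hl y hy, map_zero]
  obtain ⟨l, g, hl⟩ := stage t
  refine ⟨l, g, eq_of_local _ _ _ fun x hx => ?_⟩
  obtain ⟨y, hy, hxy⟩ := Set.mem_iUnion₂.1 (ht hx)
  exact ⟨W y, hW y, hxy, (hl y hy).trans (map_zero _).symm⟩

/-- Over an open all of whose open subsets are quasi-compact every section of the colimit comes from a
stage. -/
theorem exists_rep (hc : IsColimit c) {V : X.Opens} (hV : ∀ W : X.Opens, W ≤ V → IsCompact (W : Set X))
    (σ : Γ(c.pt, V)) : ∃ (j : J) (s : Γ(K.obj j, V)), (c.ι.app j).app V s = σ := by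
  classical
  have hloc : ∀ x : (V : Set X), ∃ (j : J) (W : X.Opens) (hW : W ≤ V) (s : Γ(K.obj j, W)),
      x.1 ∈ W ∧ (c.ι.app j).app W s = res c.pt hW σ := by
    rintro ⟨x, hx⟩
    obtain ⟨j, y, hy⟩ := exists_stalk_rep hc x (c.pt.presheaf.germ V x hx σ)
    obtain ⟨W, hxW, s, rfl⟩ := (K.obj j).presheaf.exists_germ_eq y
    rw [stalkMap_germ] at hy
    obtain ⟨W', hxW', i, i', e⟩ := c.pt.presheaf.germ_eq x hxW hx _ _ hy
    exact ⟨j, W', leOfHom i', res (K.obj j) (leOfHom i) s, hxW', (app_res _ _ _).trans e⟩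
  choose j W hW s hxW hs using hloc
  obtain ⟨t, ht⟩ := (hV V le_rfl).elim_finite_subcover (fun x => (W x : Set X)) (fun x => (W x).2)
    fun x hx => Set.mem_iUnion.2 ⟨⟨x, hx⟩, hxW _⟩
  obtain ⟨l, hl⟩ := IsFiltered.sup_objs_exists (Finset.image j t)
  have g : ∀ x : t, j x.1 ⟶ l := fun x => (hl (Finset.mem_image_of_mem j x.2)).some
  let s' : ∀ x : t, Γ(K.obj l, W x.1) := fun x => (K.map (g x)).app _ (s x.1)
  have hs' : ∀ x : t, (c.ι.app l).app _ (s' x) = res c.pt (hW x.1) σ := fun x =>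
    (ι_map c (g x) _).trans (hs x.1)
  -- agree on overlaps at a later stage
  have hov : ∀ p : t × t, ∃ (m : J) (b : l ⟶ m), (K.map b).app _
      (res (K.obj l) (inf_le_left : W p.1.1 ⊓ W p.2.1 ≤ W p.1.1) (s' p.1) -
        res (K.obj l) (inf_le_right : W p.1.1 ⊓ W p.2.1 ≤ W p.2.1) (s' p.2)) = 0 := fun p => by
    refine exists_zero hc (hV _ (inf_le_left.trans (hW p.1.1))) _ ?_
    rw [map_sub, app_res, app_res, hs', hs']
    exact sub_eq_zero.2 ((res_res _ _ _ _).trans (res_res _ _ _ _).symm)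
  have stage : ∀ P : Finset (t × t), ∃ (m : J) (b : l ⟶ m), ∀ p ∈ P, (K.map b).app _
      (res (K.obj l) (inf_le_left : W p.1.1 ⊓ W p.2.1 ≤ W p.1.1) (s' p.1) -
        res (K.obj l) (inf_le_right : W p.1.1 ⊓ W p.2.1 ≤ W p.2.1) (s' p.2)) = 0 := by
    intro P
    induction P using Finset.induction_on with
    | empty => exact ⟨l, 𝟙 l, by simp⟩
    | insert p P _ ih =>
      obtain ⟨m, b, hb⟩ := ih
      obtain ⟨m', b', hb'⟩ := hov p
      obtain ⟨n, d₁, d₂, hd⟩ := IsFiltered.span b b'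
      refine ⟨n, b ≫ d₁, fun q hq => ?_⟩
      rcases Finset.mem_insert.1 hq with rfl | hq
      · rw [hd, K.map_comp, Scheme.Modules.Hom.comp_app]
        show (K.map d₂).app _ ((K.map b').app _ _) = 0
        rw [hb', map_zero]
      · rw [K.map_comp, Scheme.Modules.Hom.comp_app]
        show (K.map d₁).app _ ((K.map b).app _ _) = 0
        rw [hb q hq, map_zero]
  obtain ⟨m, b, hb⟩ := stage Finset.univ
  let s'' : ∀ x : t, Γ(K.obj m, W x.1) := fun x => (K.map b).app _ (s' x)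
  have hcompat : ∀ x y : t, res (K.obj m) (inf_le_left : W x.1 ⊓ W y.1 ≤ W x.1) (s'' x) =
      res (K.obj m) (inf_le_right : W x.1 ⊓ W y.1 ≤ W y.1) (s'' y) := fun x y => by
    have h := hb (x, y) (Finset.mem_univ _)
    rw [map_sub, sub_eq_zero] at h
    exact ((app_res (K.map b) _ _).symm.trans h).trans (app_res (K.map b) _ _)
  obtain ⟨τ, hτ, -⟩ := TopCat.Sheaf.existsUnique_gluing' ⟨(K.obj m).presheaf, (K.obj m).isSheaf⟩
    (fun x : t => W x.1) V (fun x => homOfLE (hW x.1))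
    (fun x hx => by
      obtain ⟨y, hy, hxy⟩ := Set.mem_iUnion₂.1 (ht hx)
      exact Opens.mem_iSup.2 ⟨⟨y, hy⟩, hxy⟩) s'' hcompat
  refine ⟨m, τ, eq_of_local _ _ _ fun x hx => ?_⟩
  obtain ⟨y, hy, hxy⟩ := Set.mem_iUnion₂.1 (ht hx)
  refine ⟨W y, hW y, hxy, ?_⟩
  rw [← app_res, show res (K.obj m) (hW y) τ = s'' ⟨y, hy⟩ from hτ ⟨y, hy⟩]
  exact (ι_map c b _).trans (hs' ⟨y, hy⟩)

end Groth.Agent.ZClosLib
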