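import Groth.Agent.ZClosLib.Basic

/-!
# Intrinsic criteria for Z-pure and Z-closed modules
-/

set_option autoImplicit false

universe u

open CategoryTheory CategoryTheory.Limits AlgebraicGeometry TopologicalSpace Opposite

namespace Groth.Agent.ZClosLib

variable {X : Scheme.{u}} {Z : Set X}

variable (Z) in
/-- Sections with germs vanishing outside `Z` vanish at `x`. -/
def PureAt (F : X.Modules) (x : X) : Prop :=
  ∀ (W : X.Opens) (s : Γ(F, W)) (hx : x ∈ W),
    (∀ (y : X) (hy : y ∈ W), y ∉ Z → F.presheaf.germ W y hy s = 0) → F.presheaf.germ W x hx s = 0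

variable (Z) in
/-- Sections off a part of `Z` extend around `x`. -/
def ExtAt (F : X.Modules) (x : X) : Prop :=
  ∀ (W W' : X.Opens) (s : Γ(F, W')), x ∈ W → W' ≤ W → (∀ y ∈ W, y ∉ W' → y ∈ Z) →
    ∃ (N : X.Opens) (f : Γ(F, N)), x ∈ N ∧
      ∀ (y : X) (hyN : y ∈ N) (hy : y ∈ W'), y ∉ Z →
        F.presheaf.germ N y hyN f = F.presheaf.germ W' y hy s

theorem injective_app_of_mono {F G : X.Modules} (φ : F ⟶ G) [Mono φ] (W : X.Opens) :
    Function.Injective (φ.app W) := by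
  have h1 : Mono φ.mapPresheaf := (inferInstance : Mono ((Scheme.Modules.toPresheaf X).map φ))
  exact (AddCommGrpCat.mono_iff_injective _).1 ((NatTrans.mono_iff_mono_app φ.mapPresheaf).1 h1 (op W))

theorem mono_of_injective_stalk {F G : X.Modules} (φ : F ⟶ G)
    (h : ∀ x, Function.Injective (stalkMap φ x)) : Mono φ := by
  refine (Scheme.Modules.toPresheaf X).mono_of_mono_map ((NatTrans.mono_iff_mono_app _).2 fun W => ?_)
  refine (AddCommGrpCat.mono_iff_injective _).2 fun s t hst => ?_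
  refine eq_of_germ F (W := W.unop) s t fun x hx => h x ?_
  rw [stalkMap_germ, stalkMap_germ]
  exact congrArg _ hst

theorem injective_stalkMap_of_mono {F G : X.Modules} (φ : F ⟶ G) [Mono φ] (x : X) :
    Function.Injective (stalkMap φ x) :=
  TopCat.Presheaf.stalkFunctor_map_injective_of_app_injective (fun U => injective_app_of_mono φ U) x

theorem isIso_of_bijective_stalk {F G : X.Modules} (φ : F ⟶ G)
    (h : ∀ x, Function.Bijective (stalkMap φ x)) : IsIso φ := by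
  refine Scheme.Modules.Hom.isIso_iff_isIso_app.2 fun W => ?_
  exact (ConcreteCategory.isIso_iff_bijective _).2
    (TopCat.Presheaf.app_bijective_of_stalkFunctor_map_bijective
      (F := ⟨F.presheaf, F.isSheaf⟩) (G := ⟨G.presheaf, G.isSheaf⟩) ⟨φ.mapPresheaf⟩ W fun x _ => h x)

theorem bijective_stalkMap_of_isIso {F G : X.Modules} (φ : F ⟶ G) [IsIso φ] (x : X) :
    Function.Bijective (stalkMap φ x) := by
  refine Function.bijective_iff_has_inverse.2 ⟨stalkMap (inv φ) x, fun z => ?_, fun z => ?_⟩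
  · rw [← stalkMap_comp_apply, IsIso.hom_inv_id, stalkMap_id_apply]
  · rw [← stalkMap_comp_apply, IsIso.inv_hom_id, stalkMap_id_apply]

theorem rhoStalk_germ (F : X.Modules) {x : X} {W : X.Opens} (hx : x ∈ W) (s : Γ(F, W)) :
    ZClos.rhoStalk Z F x (F.presheaf.germ W x hx s) =
      ((ZClos.H0 Z).obj F).presheaf.germ W x hx ((ZClos.rhoApp Z F).app W s) :=
  stalkMap_germ (ZClos.rhoApp Z F) x hx s

theorem isZPure_iff_stalk (F : X.Modules) :
    ZClos.IsZPure Z F ↔ ∀ x, ZClos.IsZPureAt Z F x := by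
  refine ⟨fun h x => ?_, fun h => mono_of_injective_stalk _ h⟩
  haveI : Mono (ZClos.rhoApp Z F) := h
  exact injective_stalkMap_of_mono (ZClos.rhoApp Z F) x

theorem isZClosed_iff_stalk (F : X.Modules) :
    ZClos.IsZClosed Z F ↔ ∀ x, ZClos.IsZClosedAt Z F x := by
  refine ⟨fun h x => ?_, fun h => isIso_of_bijective_stalk _ h⟩
  haveI : IsIso (ZClos.rhoApp Z F) := h
  exact bijective_stalkMap_of_isIso (ZClos.rhoApp Z F) x

variable [IsLocallyNoetherian X] (hZ : StableUnderSpecialization Z)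
include hZ

theorem isZPureAt_iff (F : X.Modules) (x : X) : ZClos.IsZPureAt Z F x ↔ PureAt Z F x := by
  constructor
  · intro h W s hx hs
    refine h ?_
    rw [rhoStalk_germ, H0_pure hZ F ((ZClos.rhoApp Z F).app W s) (fun y hy hyZ => by
      rw [← rhoStalk_germ, hs y hy hyZ, map_zero]), map_zero, map_zero]
  · intro h
    refine (injective_iff_map_eq_zero (ZClos.rhoStalk Z F x).hom).2 fun z hz => ?_
    obtain ⟨W, hxW, s, rfl⟩ := F.presheaf.exists_germ_eq z
    replace hz : ZClos.rhoStalk Z F x (F.presheaf.germ W x hxW s) = 0 := hz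
    rw [rhoStalk_germ, ← map_zero (((ZClos.H0 Z).obj F).presheaf.germ W x hxW).hom] at hz
    obtain ⟨W', hxW', i, i', e⟩ := ((ZClos.H0 Z).obj F).presheaf.germ_eq x hxW hxW _ _ hz
    replace e : res _ (leOfHom i) ((ZClos.rhoApp Z F).app W s) = 0 := e.trans (map_zero _)
    rw [← germ_res F (leOfHom i) s x hxW']
    refine h W' _ hxW' fun y hy hyZ => (bijective_rhoStalk F hyZ).1 ?_
    rw [rhoStalk_germ, app_res, e, map_zero, map_zero]

theorem isZClosedAt_iff (F : X.Modules) (x : X) :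
    ZClos.IsZClosedAt Z F x ↔ PureAt Z F x ∧ ExtAt Z F x := by
  constructor
  · intro h
    refine ⟨(isZPureAt_iff hZ F x).1 h.1, fun W W' s hxW hW hoff => ?_⟩
    obtain ⟨V, hV, hxV, hVW⟩ := exists_isAffineOpen_mem_and_subset (x := x) (U := W) hxW
    replace hVW : V ≤ W := hVW
    obtain ⟨σ, hσ⟩ := exists_ext hZ F hV.isCompact W' (fun y hy => hoff y (hVW hy)) s
    obtain ⟨z, hz⟩ := h.2 (((ZClos.H0 Z).obj F).presheaf.germ V x hxV σ)
    obtain ⟨N, hxN, f, rfl⟩ := F.presheaf.exists_germ_eq z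
    rw [rhoStalk_germ] at hz
    obtain ⟨M, hxM, i, i', e⟩ := ((ZClos.H0 Z).obj F).presheaf.germ_eq x hxN hxV _ _ hz
    refine ⟨M, res F (leOfHom i) f, hxM, fun y hyM hy hyZ => (bijective_rhoStalk F hyZ).1 ?_⟩
    rw [germ_res, rhoStalk_germ, ← hσ y (leOfHom i' hyM) hy hyZ,
      ← germ_res ((ZClos.H0 Z).obj F) (leOfHom i) _ y hyM,
      ← germ_res ((ZClos.H0 Z).obj F) (leOfHom i') _ y hyM]
    exact congrArg _ e
  · rintro ⟨hp, he⟩
    refine ⟨(isZPureAt_iff hZ F x).2 hp, fun z => ?_⟩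
    obtain ⟨W₀, hxW₀, σ₀, rfl⟩ := ((ZClos.H0 Z).obj F).presheaf.exists_germ_eq z
    obtain ⟨V, hV, hxV, hVW⟩ := exists_isAffineOpen_mem_and_subset (x := x) (U := W₀) hxW₀
    replace hVW : V ≤ W₀ := hVW
    set σ := res ((ZClos.H0 Z).obj F) hVW σ₀ with hσ
    obtain ⟨W', hW', s, hoff, hs⟩ := exists_rep' F hV.isCompact σ
    obtain ⟨N, f, hxN, hf⟩ := he V W' s hxV hW' hoff
    refine ⟨F.presheaf.germ N x hxN f, ?_⟩
    have key : res ((ZClos.H0 Z).obj F) (inf_le_left : N ⊓ V ≤ N) ((ZClos.rhoApp Z F).app N f) =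
        res ((ZClos.H0 Z).obj F) (inf_le_right : N ⊓ V ≤ V) σ := by
      refine sub_eq_zero.1 (H0_pure hZ F _ fun y hy hyZ => ?_)
      have hyW : y ∈ W' := by
        by_contra hc
        exact hyZ (hoff y hy.2 hc)
      rw [map_sub, germ_res, germ_res, ← rhoStalk_germ, hf y hy.1 hyW hyZ, ← hs y hyW, sub_self]
    rw [rhoStalk_germ, ← germ_res _ (inf_le_left : N ⊓ V ≤ N) _ x ⟨hxN, hxV⟩, key, germ_res, hσ, germ_res]

theorem isZPure_iff (F : X.Modules) : ZClos.IsZPure Z F ↔ ∀ x, PureAt Z F x :=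
  (isZPure_iff_stalk F).trans (forall_congr' fun x => isZPureAt_iff hZ F x)

theorem isZClosed_iff (F : X.Modules) :
    ZClos.IsZClosed Z F ↔ ∀ x, PureAt Z F x ∧ ExtAt Z F x :=
  (isZClosed_iff_stalk F).trans (forall_congr' fun x => isZClosedAt_iff hZ F x)

omit hZ [IsLocallyNoetherian X] in
theorem eq_zero_of_pure {F : X.Modules} {W : X.Opens} (hp : ∀ x ∈ W, PureAt Z F x) (s : Γ(F, W))
    (h : ∀ (y : X) (hy : y ∈ W), y ∉ Z → F.presheaf.germ W y hy s = 0) : s = 0 :=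
  eq_of_germ F s 0 fun x hx => (hp x hx W s hx h).trans (map_zero _).symm

omit hZ [IsLocallyNoetherian X] in
theorem injective_res_of_pure {F : X.Modules} {V W : X.Opens} (hW : W ≤ V)
    (hp : ∀ x ∈ V, PureAt Z F x) (hoff : ∀ y ∈ V, y ∉ W → y ∈ Z) : Function.Injective (res F hW) := by
  intro s t hst
  refine sub_eq_zero.1 (eq_zero_of_pure hp (s - t) fun y hy hyZ => ?_)
  have hyW : y ∈ W := by
    by_contra hc
    exact hyZ (hoff y hy hc)
  rw [map_sub, ← germ_res F hW s y hyW, ← germ_res F hW t y hyW, hst, sub_self]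

omit hZ [IsLocallyNoetherian X] in
theorem surjective_res_of_closed {F : X.Modules} {V W : X.Opens} (hW : W ≤ V)
    (hc : ∀ x ∈ V, PureAt Z F x ∧ ExtAt Z F x) (hoff : ∀ y ∈ V, y ∉ W → y ∈ Z) :
    Function.Surjective (res F hW) := by
  intro s
  have hp : ∀ x ∈ V, PureAt Z F x := fun x hx => (hc x hx).1
  have hloc : ∀ x : V, ∃ (N : X.Opens) (f : Γ(F, N)), x.1 ∈ N ∧
      ∀ (y : X) (hyN : y ∈ N) (hy : y ∈ W), y ∉ Z → F.presheaf.germ N y hyN f = F.presheaf.germ W y hy s :=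
    fun x => (hc x.1 x.2).2 V W s x.2 hW hoff
  choose N f hxN hf using hloc
  let M : V → X.Opens := fun x => N x ⊓ V
  let g : ∀ x, Γ(F, M x) := fun x => res F (inf_le_left : N x ⊓ V ≤ N x) (f x)
  have hcompat : ∀ x y : V, res F (inf_le_left : M x ⊓ M y ≤ M x) (g x) =
      res F (inf_le_right : M x ⊓ M y ≤ M y) (g y) := fun x y => by
    refine sub_eq_zero.1 (eq_zero_of_pure (W := M x ⊓ M y) (fun z hz => hp z hz.1.2) _ fun z hz hzZ => ?_)
    have hzW : z ∈ W := by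
      by_contra hcz
      exact hzZ (hoff z hz.1.2 hcz)
    rw [map_sub, germ_res, germ_res, germ_res, germ_res, hf x z hz.1.1 hzW hzZ,
      hf y z hz.2.1 hzW hzZ, sub_self]
  obtain ⟨τ, hτ, -⟩ := TopCat.Sheaf.existsUnique_gluing' ⟨F.presheaf, F.isSheaf⟩
    M V (fun x => homOfLE inf_le_right)
    (fun x hx => Opens.mem_iSup.2 ⟨⟨x, hx⟩, hxN ⟨x, hx⟩, hx⟩) g hcompat
  refine ⟨τ, sub_eq_zero.1 (eq_zero_of_pure (fun z hz => hp z (hW hz)) _ fun z hz hzZ => ?_)⟩
  rw [map_sub, germ_res, ← germ_res F (inf_le_right : N ⟨z, hW hz⟩ ⊓ V ≤ V) τ z ⟨hxN _, hW hz⟩,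
    show res F (inf_le_right : N ⟨z, hW hz⟩ ⊓ V ≤ V) τ = g ⟨z, hW hz⟩ from hτ ⟨z, hW hz⟩,
    germ_res, hf _ z (hxN _) hz hzZ, sub_self]

/-- Purity from injective restrictions over quasi-compact opens. -/
theorem isZPure_of_injective (F : X.Modules)
    (h : ∀ (T : ZClos.Cl Z) (V : X.Opens), IsCompact (V : Set X) →
      Function.Injective (res F (inf_le_left : V ⊓ T.U ≤ V))) : ZClos.IsZPure Z F := by
  refine (isZPure_iff hZ F).2 fun x W s hx hs => ?_
  obtain ⟨V, hV, hxV, hVW⟩ := exists_isAffineOpen_mem_and_subset (x := x) (U := W) hx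
  replace hVW : V ≤ W := hVW
  let W₂ : X.Opens := ⟨{y | ∃ (W' : X.Opens) (hle : W' ≤ W), y ∈ W' ∧ res F hle s = 0},
    isOpen_iff_forall_mem_open.2 fun y ⟨W', hle, hy, e⟩ => ⟨W', fun z hz => ⟨W', hle, hz, e⟩, W'.2, hy⟩⟩
  have hoff : ∀ y ∈ V, y ∉ W₂ → y ∈ Z := fun y hy hy2 => by
    by_contra hyZ
    have e0 : F.presheaf.germ W y (hVW hy) s = F.presheaf.germ W y (hVW hy) 0 := by
      rw [map_zero]; exact hs y (hVW hy) hyZ
    obtain ⟨W', hyW', i, i', e'⟩ := F.presheaf.germ_eq y _ _ _ _ e0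
    exact hy2 ⟨W', leOfHom i, hyW', e'.trans (map_zero _)⟩
  obtain ⟨T, -, hT⟩ := exists_cl hZ hV.isCompact W₂ hoff ⊥
  have e : res F hVW s = 0 := h T V hV.isCompact <| eq_of_local F _ _ fun y hy => by
    obtain ⟨W', hle, hyW', e⟩ := hT hy
    refine ⟨W' ⊓ (V ⊓ T.U), inf_le_right, ⟨hyW', hy⟩, ?_⟩
    rw [res_res, res_res, res_res, ← res_res F hle (inf_le_left : W' ⊓ _ ≤ W'), e]
    exact (map_zero _).trans (map_zero _).symm
  rw [← germ_res F hVW s x hxV, e, map_zero]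

/-- Closedness from bijective restrictions over quasi-compact opens. -/
theorem isZClosed_of_bijective (F : X.Modules)
    (h : ∀ (T : ZClos.Cl Z) (V : X.Opens), IsCompact (V : Set X) →
      Function.Bijective (res F (inf_le_left : V ⊓ T.U ≤ V))) : ZClos.IsZClosed Z F := by
  have hp := (isZPure_iff hZ F).1 (isZPure_of_injective hZ F fun T V hV => (h T V hV).1)
  refine (isZClosed_iff hZ F).2 fun x => ⟨hp x, fun W W' s hxW hW hoff => ?_⟩
  obtain ⟨V, hV, hxV, hVW⟩ := exists_isAffineOpen_mem_and_subset (x := x) (U := W) hxW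
  obtain ⟨T, -, hT⟩ := exists_cl hZ hV.isCompact W' (fun y hy => hoff y (hVW hy)) ⊥
  obtain ⟨f, hf⟩ := (h T V hV.isCompact).2 (res F hT s)
  refine ⟨V, f, hxV, fun y hyV hy hyZ => ?_⟩
  rw [← germ_res F (inf_le_left : V ⊓ T.U ≤ V) f y ⟨hyV, mem_U hyZ⟩, hf, germ_res]

end Groth.Agent.ZClosLib
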