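import Groth.Agent.ZClosLib.Criterion
import Groth.Agent.AssSch12.Primary
import Groth.Agent.CAlgH3.Depth
import Groth.Prelude.Def_Coh
import Groth.Prelude.Def_CAlg

/-!
# Pointwise purity and closedness in terms of depth
-/

set_option autoImplicit false

universe u

open CategoryTheory CategoryTheory.Limits AlgebraicGeometry TopologicalSpace Opposite IsLocalRing
open Groth.Agent.QCohLoc Groth.Agent.AssSch12
open scoped Pointwise

namespace Groth.Agent.ZClosLib

variable {X : Scheme.{u}} [IsLocallyNoetherian X] {Z : Set X} {F : X.Modules}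

/-- A germ killed at `y` is killed at generizations of `y`. -/
theorem germ_zero_of_specializes {W : X.Opens} {η y : X} (h : η ⤳ y) (hy : y ∈ W) (s : Γ(F, W))
    (hs : F.presheaf.germ W y hy s = 0) : F.presheaf.germ W η (h.mem_open W.2 hy) s = 0 := by
  have := congr(F.presheaf.stalkSpecializes h $hs)
  rwa [map_zero, TopCat.Presheaf.germ_stalkSpecializes_apply] at this

theorem nontrivial_of_ass {η : X} (hη : η ∈ AssSch.Ass F) : Nontrivial (F.presheaf.stalk η) := by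
  by_contra h
  haveI := not_nontrivial_iff_subsingleton.1 h
  have := associatedPrimes.eq_empty_of_subsingleton (R := X.presheaf.stalk η) (M := F.presheaf.stalk η)
  exact (Set.eq_empty_iff_forall_notMem.1 this _) hη

variable [F.IsQuasicoherent]

/-- An associated point is the exact annihilator of a section over an affine open. -/
theorem exists_section_of_ass {U : X.Opens} (hU : IsAffineOpen U) {η : X} (hη : η ∈ U)
    (h : η ∈ AssSch.Ass F) :
    ∃ m : Γ(F, U), (∀ r : Γ(X, U), r • m = 0 ↔ r ∈ primeAt hU hη) := by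
  haveI := isNoetherianRing_of_isAffineOpen hU
  obtain ⟨-, m, hm⟩ := (isAssociatedPrime_iff (R := Γ(X, U))).1 ((mem_ass_iff hU hη F).1 h)
  exact ⟨m, fun r => by rw [hm, Submodule.mem_colon_singleton, Submodule.mem_bot]⟩

theorem pureAt_iff_ass (hZ : StableUnderSpecialization Z) (x : X) :
    PureAt Z F x ↔ ∀ η : X, η ⤳ x → η ∈ Z → η ∉ AssSch.Ass F := by
  constructor
  · intro h η hηx hηZ hη
    obtain ⟨W, hW, hxW, -⟩ := exists_isAffineOpen_mem_and_subset (x := x) (U := (⊤ : X.Opens)) trivial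
    have hηW : η ∈ W := hηx.mem_open W.2 hxW
    obtain ⟨m, hm⟩ := exists_section_of_ass hW hηW hη
    have h0 : F.presheaf.germ W x hxW m = 0 := by
      refine h W m hxW fun y hy hyZ => ?_
      have hnot : ¬ η ⤳ y := fun hc => hyZ (hZ hc hηZ)
      rw [specializes_iff hW hηW hy, SetLike.not_le_iff_exists] at hnot
      obtain ⟨r, hr, hr'⟩ := hnot
      exact germ_eq_zero_of_smul_eq_zero hy F ((notMem_primeAt_iff hW hy r).1 hr') ((hm r).2 hr)
    obtain ⟨r, hr, hrm⟩ := exists_smul_eq_zero_of_germ F hW hxW m h0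
    exact (notMem_primeAt_iff hW hxW r).2 hr ((specializes_iff hW hηW hxW).1 hηx ((hm r).1 hrm))
  · intro h W s hx hs
    obtain ⟨V, hV, hxV, hVW⟩ := exists_isAffineOpen_mem_and_subset (x := x) (U := W) hx
    replace hVW : V ≤ W := hVW
    rw [← germ_res F hVW s x hxV]
    by_contra hne
    obtain ⟨T, -, hT, hT'⟩ := exists_finite_ass_generating_support hV F (res F hVW s)
    obtain ⟨η, hηT, hηx⟩ := hT' x hxV hne
    obtain ⟨hηV, hηA, hηne⟩ := hT η hηT
    refine h η hηx ?_ hηA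
    by_contra hηZ
    exact hηne ((germ_res F hVW s η hηV).trans (hs η (hVW hηV) hηZ))

/-- The points of non-vanishing of a section near a point come from associated points generizing it. -/
theorem exists_nbhd_ass {W : X.Opens} (hW : IsCompact (W : Set X)) (d : Γ(F, W)) (y : X) :
    ∃ N : X.Opens, y ∈ N ∧ ∀ (z : X) (hz : z ∈ W), z ∈ N → F.presheaf.germ W z hz d ≠ 0 →
      ∃ η : X, η ∈ AssSch.Ass F ∧ η ⤳ y ∧ η ⤳ z ∧ ∃ hη : η ∈ W, F.presheaf.germ W η hη d ≠ 0 := by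
  classical
  have hloc : ∀ z : (W : Set X), ∃ V : X.Opens, IsAffineOpen V ∧ z.1 ∈ V ∧ V ≤ W := fun z => by
    obtain ⟨V, hV, hzV, hVW⟩ := exists_isAffineOpen_mem_and_subset (x := z.1) (U := W) z.2
    exact ⟨V, hV, hzV, hVW⟩
  choose V hV hzV hVW using hloc
  obtain ⟨t, ht⟩ := hW.elim_finite_subcover (fun z => (V z : Set X)) (fun z => (V z).2)
    fun z hz => Set.mem_iUnion.2 ⟨⟨z, hz⟩, hzV _⟩
  choose T hTfin hT hT' using fun z => exists_finite_ass_generating_support (hV z) F (res F (hVW z) d)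
  let B : Set X := {η | (∃ z ∈ t, η ∈ T z) ∧ ¬ η ⤳ y}
  have hB : B.Finite := ((t.finite_toSet.biUnion fun z _ => hTfin z)).subset fun η ⟨⟨z, hz, hη⟩, _⟩ =>
    Set.mem_biUnion hz hη
  refine ⟨⟨(⋃ η ∈ B, closure {η})ᶜ, (hB.isClosed_biUnion fun η _ => isClosed_closure).isOpen_compl⟩,
    fun hc => ?_, fun z hz hzN hne => ?_⟩
  · obtain ⟨η, hη, hη'⟩ := Set.mem_iUnion₂.1 hc
    exact hη.2 (specializes_iff_mem_closure.2 hη')
  · obtain ⟨w, hw, hzw⟩ := Set.mem_iUnion₂.1 (ht hz)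
    obtain ⟨η, hηT, hηz⟩ := hT' w z hzw (by rwa [germ_res])
    obtain ⟨hη, hηA, hηne⟩ := hT w η hηT
    refine ⟨η, hηA, ?_, hηz, hVW w hη, by rwa [germ_res] at hηne⟩
    by_contra hηy
    exact hzN (Set.mem_biUnion (x := η) ⟨⟨w, hw, hηT⟩, hηy⟩ (specializes_iff_mem_closure.1 hηz))

/-- Regular on the sections over an affine open implies regular on the stalks. -/
theorem isSMulRegular_stalk {U : X.Opens} (hU : IsAffineOpen U) {a : Γ(X, U)}
    (ha : ∀ m : Γ(F, U), a • m = 0 → m = 0) {y : X} (hy : y ∈ U) :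
    IsSMulRegular (F.presheaf.stalk y) (X.presheaf.germ U y hy a) := by
  refine isSMulRegular_iff_right_eq_zero_of_smul.2 fun z hz => ?_
  obtain ⟨f, m, hf, hm⟩ := exists_smul_stalk_eq_germ F hU hy z
  have hu : IsUnit (X.presheaf.germ U y hy f) := (Scheme.mem_basicOpen _ _ _ hy).1 hf
  have h0 : F.presheaf.germ U y hy (a • m) = 0 := by
    rw [germ_smul', ← hm, smul_comm, hz, smul_zero]
  obtain ⟨g, hg, hgm⟩ := exists_smul_eq_zero_of_germ F hU hy _ h0
  refine hu.smul_eq_zero.1 (hm.trans ?_)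
  exact germ_eq_zero_of_smul_eq_zero hy F hg (ha _ (by rwa [smul_comm]))

variable (hF : Coh.IsCoh F)
include hF

/-- Purity at a point gives purity on an affine neighbourhood. -/
theorem exists_affine_noAss (hZ : StableUnderSpecialization Z) {x : X} (hp : PureAt Z F x) (V : X.Opens)
    (hxV : x ∈ V) :
    ∃ W : X.Opens, IsAffineOpen W ∧ x ∈ W ∧ W ≤ V ∧ ∀ η ∈ W, η ∈ AssSch.Ass F → η ∉ Z := by
  obtain ⟨U, hU, hxU, hUV⟩ := exists_isAffineOpen_mem_and_subset (x := x) (U := V) hxV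
  haveI := isNoetherianRing_of_isAffineOpen hU
  haveI : Module.Finite Γ(X, U) Γ(F, U) := ((Coherent.isCoh_iff_finite_sections F).1 hF).2 U hU
  let B : Set X := {η | η ∈ U ∧ η ∈ AssSch.Ass F ∧ η ∈ Z}
  have hB : B.Finite := by
    refine ((associatedPrimes.finite Γ(X, U) Γ(F, U)).biUnion
      (t := fun q => {t : X | ∃ ht : t ∈ U, primeAt hU ht = q}) fun q _ => Set.Subsingleton.finite ?_).subset ?_
    · rintro a ⟨ha, rfl⟩ b ⟨hb, hb'⟩
      have e : hU.primeIdealOf ⟨a, ha⟩ = hU.primeIdealOf ⟨b, hb⟩ := PrimeSpectrum.ext hb'.symm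
      have := congrArg hU.fromSpec e
      rwa [hU.fromSpec_primeIdealOf, hU.fromSpec_primeIdealOf] at this
    · rintro η ⟨hη, hηA, -⟩
      exact Set.mem_biUnion ((mem_ass_iff hU hη F).1 hηA) ⟨hη, rfl⟩
  let N : X.Opens := ⟨(⋃ η ∈ B, closure {η})ᶜ, (hB.isClosed_biUnion fun η _ => isClosed_closure).isOpen_compl⟩
  have hxN : x ∈ N := fun hc => by
    obtain ⟨η, hη, hη'⟩ := Set.mem_iUnion₂.1 hc
    exact (pureAt_iff_ass hZ x).1 hp η (specializes_iff_mem_closure.2 hη') hη.2.2 hη.2.1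
  obtain ⟨f, hfN, hxf⟩ := hU.exists_basicOpen_le (⟨x, hxN⟩ : N) hxU
  exact ⟨X.basicOpen f, hU.basicOpen f, hxf, (X.basicOpen_le f).trans hUV,
    fun η hη hηA hηZ => hfN hη (Set.mem_biUnion (x := η) ⟨X.basicOpen_le f hη, hηA, hηZ⟩ (subset_closure rfl))⟩

omit hF [F.IsQuasicoherent] [IsLocallyNoetherian X] in
theorem exists_isUnit_multiplier {U : X.Opens} (hU : IsAffineOpen U) {y : X} (hy : y ∈ U)
    (z : X.presheaf.stalk y) :
    ∃ (a : Γ(X, U)) (c : X.presheaf.stalk y), IsUnit c ∧ z = c * X.presheaf.germ U y hy a := by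
  letI := TopCat.Presheaf.algebra_section_stalk X.presheaf (⟨y, hy⟩ : U)
  haveI := hU.isLocalization_stalk ⟨y, hy⟩
  obtain ⟨⟨a, s⟩, rfl⟩ := IsLocalization.mk'_surjective (primeAt hU hy).primeCompl z
  obtain ⟨v, hv⟩ := IsLocalization.map_units (X.presheaf.stalk y) s
  refine ⟨a, ↑v⁻¹, v⁻¹.isUnit, ?_⟩
  rw [show X.presheaf.germ U y hy a = algebraMap Γ(X, U) (X.presheaf.stalk y) a from rfl,
    ← IsLocalization.mk'_spec (X.presheaf.stalk y) a s, ← hv, mul_left_comm, Units.inv_mul, mul_one]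

theorem depth_two_of_closedAt (hZ : StableUnderSpecialization Z) {x : X} (hp : PureAt Z F x)
    (he : ExtAt Z F x) {p : X} (hpx : p ⤳ x) (hpZ : p ∈ Z) :
    (2 : ℕ∞) ≤ LocCoh.depth (X.presheaf.stalk p) (F.presheaf.stalk p) := by
  classical
  haveI := finite_stalk hF p
  rcases subsingleton_or_nontrivial (F.presheaf.stalk p) with hs | hs
  · rw [CAlgH3.depth_eq_top_of_subsingleton]; exact le_top
  obtain ⟨W, hW, hxW, -, hass⟩ := exists_affine_noAss hF hZ hp ⊤ trivial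
  have hpW : p ∈ W := hpx.mem_open W.2 hxW
  haveI := isNoetherianRing_of_isAffineOpen hW
  haveI : Module.Finite Γ(X, W) Γ(F, W) := ((Coherent.isCoh_iff_finite_sections F).1 hF).2 W hW
  -- a regular element vanishing at `p`
  obtain ⟨a, hap, ha⟩ : ∃ a ∈ primeAt hW hpW, ∀ m : Γ(F, W), a • m = 0 → m = 0 := by
    by_contra! hc
    have hle : (primeAt hW hpW : Set Γ(X, W)) ⊆
        ⋃ q ∈ ((associatedPrimes.finite Γ(X, W) Γ(F, W)).toFinset : Set (Ideal Γ(X, W))), id q := by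
      intro b hb
      obtain ⟨m, hm, hm0⟩ := hc b hb
      rw [Set.Finite.coe_toFinset]
      simp only [id_eq]
      rw [biUnion_associatedPrimes_eq_zero_divisors]
      exact ⟨m, hm0, hm⟩
    obtain ⟨q, hq, hle'⟩ := (Ideal.subset_union_prime ⊥ ⊥ (fun q hq _ _ =>
      IsAssociatedPrime.isPrime ((associatedPrimes.finite Γ(X, W) Γ(F, W)).mem_toFinset.1 hq))).1 hle
    rw [Set.Finite.mem_toFinset] at hq
    haveI : q.IsPrime := IsAssociatedPrime.isPrime hq
    obtain ⟨η, hη, rfl⟩ := exists_point hW q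
    exact hass η hη ((mem_ass_iff hW hη F).2 hq) (hZ ((specializes_iff hW hpW hη).2 hle') hpZ)
  set α := X.presheaf.germ W p hpW a with hα
  have hαm : α ∈ maximalIdeal (X.presheaf.stalk p) := (germ_mem_maximalIdeal_iff hW hpW a).2 hap
  have hαr : IsSMulRegular (F.presheaf.stalk p) α := isSMulRegular_stalk hW ha hpW
  rw [← CAlgH3.depth_quotSMulTop_add_one hαm hαr, show (2 : ℕ∞) = 1 + 1 from one_add_one_eq_two.symm]
  refine add_le_add ?_ le_rfl
  rcases subsingleton_or_nontrivial (QuotSMulTop α (F.presheaf.stalk p)) with hs' | hs'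
  · rw [CAlgH3.depth_eq_top_of_subsingleton]; exact le_top
  rw [CAlgH3.one_le_depth_iff]
  intro hmax
  obtain ⟨-, zq, hzq⟩ := (isAssociatedPrime_iff (R := X.presheaf.stalk p)).1 hmax
  obtain ⟨z, rfl⟩ := Submodule.Quotient.mk_surjective _ zq
  obtain ⟨f, m, hf, hm⟩ := exists_smul_stalk_eq_germ F hW hpW z
  have hfu : IsUnit (X.presheaf.germ W p hpW f) := (Scheme.mem_basicOpen _ _ _ hpW).1 hf
  have hzmem : z ∉ α • (⊤ : Submodule (X.presheaf.stalk p) (F.presheaf.stalk p)) := fun hc => by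
    have : (1 : X.presheaf.stalk p) ∈ maximalIdeal (X.presheaf.stalk p) := by
      rw [hzq, Submodule.mem_colon_singleton, Submodule.mem_bot, one_smul,
        Submodule.Quotient.mk_eq_zero]
      exact hc
    exact (maximalIdeal.isMaximal _).ne_top ((Ideal.eq_top_iff_one _).2 this)
  -- `p m ⊆ a M` after a multiplier outside `p`
  have hq : ∀ q ∈ primeAt hW hpW, ∃ r ∉ primeAt hW hpW, ∃ n : Γ(F, W), (r * q) • m = a • n := by
    intro q hq
    have hmem : X.presheaf.germ W p hpW q ∈ maximalIdeal (X.presheaf.stalk p) :=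
      (germ_mem_maximalIdeal_iff hW hpW q).2 hq
    rw [hzq, Submodule.mem_colon_singleton, Submodule.mem_bot, ← Submodule.Quotient.mk_smul,
      Submodule.Quotient.mk_eq_zero] at hmem
    obtain ⟨w, -, hw⟩ := (Submodule.mem_smul_pointwise_iff_exists _ _ _).1 hmem
    obtain ⟨g, n, hg, hn⟩ := exists_smul_stalk_eq_germ F hW hpW w
    have e : F.presheaf.germ W p hpW ((g * q) • m - (f * a) • n) = 0 := by
      rw [map_sub, germ_smul', germ_smul', ← hn, ← hm, map_mul, map_mul, sub_eq_zero, smul_smul, smul_smul,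
        ← hα]
      calc (_ * _ * _ : X.presheaf.stalk p) • z
          = (X.presheaf.germ W p hpW g * X.presheaf.germ W p hpW f) • (X.presheaf.germ W p hpW q • z) := by
            rw [smul_smul]; ring_nf
        _ = _ := by rw [← hw, smul_smul]; ring_nf
    obtain ⟨h, hh, hhm⟩ := exists_smul_eq_zero_of_germ F hW hpW _ e
    refine ⟨h * g, fun hc => ?_, (h * f) • n, ?_⟩
    · rcases (Ideal.IsPrime.mem_or_mem (hW.primeIdealOf ⟨p, hpW⟩).2 hc) with hc | hc
      · exact (notMem_primeAt_iff hW hpW h).2 hh hc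
      · exact (notMem_primeAt_iff hW hpW g).2 hg hc
    · rw [smul_sub, sub_eq_zero, smul_smul, smul_smul] at hhm
      rw [mul_assoc, hhm, smul_smul]
      ring_nf
  haveI hprime : (primeAt hW hpW).IsPrime := (hW.primeIdealOf ⟨p, hpW⟩).2
  obtain ⟨r, hr, hrm⟩ : ∃ r ∉ primeAt hW hpW, ∀ q ∈ primeAt hW hpW, ∃ n : Γ(F, W), q • r • m = a • n := by
    obtain ⟨G, hG⟩ := IsNoetherian.noetherian (primeAt hW hpW)
    have hGp : ∀ q ∈ G, q ∈ primeAt hW hpW := fun q hq => hG ▸ Submodule.subset_span hq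
    choose! r hr n hn using hq
    refine ⟨∏ q ∈ G, r q, fun hc => ?_, fun q hq => ?_⟩
    · obtain ⟨q, hq, hq'⟩ := (Ideal.IsPrime.prod_mem_iff (hp := hprime)).1 hc
      exact hr q (hGp q hq) hq'
    · rw [← hG] at hq
      induction hq using Submodule.span_induction with
      | mem q hq =>
        obtain ⟨c, hc⟩ := Finset.dvd_prod_of_mem r (Finset.mem_coe.1 hq)
        refine ⟨c • n q, ?_⟩
        rw [smul_comm a c, ← hn q (hGp q hq), hc, smul_smul, smul_smul]
        ring_nf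
      | zero => exact ⟨0, by rw [zero_smul, smul_zero]⟩
      | add u v _ _ hu hv =>
        obtain ⟨nu, hnu⟩ := hu
        obtain ⟨nv, hnv⟩ := hv
        exact ⟨nu + nv, by rw [add_smul, hnu, hnv, smul_add]⟩
      | smul c u _ hu =>
        obtain ⟨nu, hnu⟩ := hu
        exact ⟨c • nu, by rw [smul_eq_mul, mul_smul, hnu, smul_comm]⟩
  choose n hn using hrm
  -- the section `r m / a` off the closure of `p`
  let Q : Type u := {q : Γ(X, W) // q ∈ primeAt hW hpW}
  let W' : X.Opens := ⨆ q : Q, X.basicOpen q.1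
  have hreg : ∀ {V : X.Opens} (hV : V ≤ W) (t : Γ(F, V)), X.presheaf.map (homOfLE hV).op a • t = 0 → t = 0 := by
    intro V hV t ht
    refine eq_of_germ F t 0 fun y hy => ?_
    have := congr(F.presheaf.germ V y hy $ht)
    rw [germ_smul', TopCat.Presheaf.germ_res_apply, map_zero] at this
    rw [map_zero]
    exact (isSMulRegular_stalk hW ha (hV hy)).right_eq_zero_of_smul this
  have hsq : ∀ q : Q, ∃ t : Γ(F, X.basicOpen q.1),
      X.presheaf.map (homOfLE (X.basicOpen_le q.1)).op a • t = res F (X.basicOpen_le q.1) (r • m) := by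
    intro q
    have hu : IsUnit (M := Γ(X, X.basicOpen q.1)) (X.presheaf.map (homOfLE (X.basicOpen_le q.1)).op q.1) :=
      RingedSpace.isUnit_res_basicOpen X.toRingedSpace q.1
    obtain ⟨v, hv⟩ := hu
    refine ⟨(↑v⁻¹ : Γ(X, X.basicOpen q.1)) • res F (X.basicOpen_le q.1) (n q.1 q.2), ?_⟩
    have e := congrArg (res F (X.basicOpen_le q.1)) (hn q.1 q.2)
    simp only [res, Scheme.Modules.map_smul] at e ⊢
    rw [smul_comm, ← e, ← hv, smul_smul, Units.inv_mul, one_smul]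
  choose t ht using hsq
  obtain ⟨s, hs, -⟩ := TopCat.Sheaf.existsUnique_gluing' ⟨F.presheaf, F.isSheaf⟩
    (fun q : Q => X.basicOpen q.1) W' (fun q => homOfLE (le_iSup (fun q : Q => X.basicOpen q.1) q)) le_rfl t
    fun q q' => by
      refine sub_eq_zero.1 (hreg ((inf_le_left : X.basicOpen q.1 ⊓ X.basicOpen q'.1 ≤ _).trans (X.basicOpen_le q.1)) _ ?_)
      have e1 := congrArg (res F (inf_le_left : X.basicOpen q.1 ⊓ X.basicOpen q'.1 ≤ _)) (ht q)
      have e2 := congrArg (res F (inf_le_right : X.basicOpen q.1 ⊓ X.basicOpen q'.1 ≤ _)) (ht q')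
      simp only [res, Scheme.Modules.map_smul, ← Functor.map_comp_apply, ← op_comp, homOfLE_comp] at e1 e2 ⊢
      rw [smul_sub]
      exact sub_eq_zero.2 (e1.trans e2.symm)
  have hW' : W' ≤ W := iSup_le fun q => X.basicOpen_le q.1
  have hoff : ∀ y ∈ W, y ∉ W' → y ∈ Z := fun y hy hy' => by
    refine hZ ((specializes_iff hW hpW hy).2 fun q hq => (mem_primeAt_iff hW hy q).2 fun hyq => ?_) hpZ
    exact hy' (Opens.mem_iSup.2 ⟨⟨q, hq⟩, hyq⟩)
  obtain ⟨N, g, hxN, hg⟩ := he W W' s hxW hW' hoff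
  have hpN : p ∈ N := hpx.mem_open N.2 hxN
  have key : X.presheaf.map (homOfLE (inf_le_right : N ⊓ W ≤ W)).op a • res F (inf_le_left : N ⊓ W ≤ N) g -
      res F (inf_le_right : N ⊓ W ≤ W) (r • m) = 0 := by
    refine eq_zero_of_pure (W := N ⊓ W) (fun y hy => (pureAt_iff_ass hZ y).2 fun η hηy hηZ hηA =>
      hass η (hηy.mem_open W.2 hy.2) hηA hηZ) _ fun y hy hyZ => ?_
    have hy' : y ∈ W' := by
      by_contra hc
      exact hyZ (hoff y hy.2 hc)
    obtain ⟨q, hq⟩ := Opens.mem_iSup.1 hy'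
    rw [map_sub, sub_eq_zero, germ_smul', TopCat.Presheaf.germ_res_apply, germ_res, germ_res, hg y hy.1 hy' hyZ,
      ← germ_res F (le_iSup (fun q : Q => X.basicOpen q.1) q) s y hq,
      show res F (le_iSup (fun q : Q => X.basicOpen q.1) q) s = t q from hs q,
      ← germ_res F (X.basicOpen_le q.1) (r • m) y hq, ← ht q, germ_smul', TopCat.Presheaf.germ_res_apply]
  have e := congr(F.presheaf.germ (N ⊓ W) p ⟨hpN, hpW⟩ $key)
  rw [map_sub, germ_smul', TopCat.Presheaf.germ_res_apply, germ_res, germ_res, map_zero, sub_eq_zero,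
    germ_smul', ← hm, smul_smul] at e
  have hu : IsUnit (X.presheaf.germ W p hpW r * X.presheaf.germ W p hpW f) :=
    ((Scheme.mem_basicOpen _ _ _ hpW).1 ((notMem_primeAt_iff hW hpW r).1 hr)).mul hfu
  refine hzmem ((Submodule.smul_mem_iff_of_isUnit _ hu).1 ?_)
  rw [← e]
  exact Submodule.smul_mem_pointwise_smul _ _ _ Submodule.mem_top

theorem extAt_of_depth (hZ : StableUnderSpecialization Z) {x : X} (hp : PureAt Z F x)
    (hd : ∀ y : X, y ⤳ x → y ∈ Z → (2 : ℕ∞) ≤ LocCoh.depth (X.presheaf.stalk y) (F.presheaf.stalk y)) :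
    ExtAt Z F x := by
  classical
  intro W₀ W' s hxW₀ hW'W hoff₀
  obtain ⟨V, hV, hxV, hVW, hass⟩ := exists_affine_noAss hF hZ hp W₀ hxW₀
  haveI := isNoetherianRing_of_isAffineOpen hV
  have hpure : ∀ y ∈ V, PureAt Z F y := fun y hy => (pureAt_iff_ass hZ y).2 fun η hηy hηZ hηA =>
    hass η (hηy.mem_open V.2 hy) hηA hηZ
  -- the extensions
  let ι : Type u := {e : Σ N : X.Opens, Γ(F, N) // e.1 ≤ V ∧ ∀ (y : X) (hyN : y ∈ e.1) (hy : y ∈ W'),
    y ∉ Z → F.presheaf.germ e.1 y hyN e.2 = F.presheaf.germ W' y hy s}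
  let S : X.Opens := ⨆ e : ι, e.1.1
  have hSV : S ≤ V := iSup_le fun e => e.2.1
  let e₀ : ι := ⟨⟨V ⊓ W', res F inf_le_right s⟩, inf_le_left, fun y hy hy' _ => germ_res F _ s y hy⟩
  have hW'S : V ⊓ W' ≤ S := le_iSup (fun e : ι => e.1.1) e₀
  have hoff : ∀ y ∈ V, y ∉ S → y ∈ Z := fun y hy hy' =>
    hoff₀ y (hVW hy) fun hc => hy' (hW'S ⟨hy, hc⟩)
  obtain ⟨σ, hσ, -⟩ := TopCat.Sheaf.existsUnique_gluing' ⟨F.presheaf, F.isSheaf⟩
    (fun e : ι => e.1.1) S (fun e => homOfLE (le_iSup (fun e : ι => e.1.1) e)) le_rfl (fun e => e.1.2)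
    fun e e' => by
      refine sub_eq_zero.1 (eq_zero_of_pure (W := e.1.1 ⊓ e'.1.1) (fun y hy => hpure y (e.2.1 hy.1)) _ fun y hy hyZ => ?_)
      have hy' : y ∈ W' := by
        by_contra hc
        exact hyZ (hoff₀ y (hVW (e.2.1 hy.1)) hc)
      erw [map_sub, germ_res, germ_res, e.2.2 y hy.1 hy' hyZ, e'.2.2 y hy.2 hy' hyZ, sub_self]
  have hσs : ∀ (y : X) (hyS : y ∈ S) (hy : y ∈ W'), y ∉ Z →
      F.presheaf.germ S y hyS σ = F.presheaf.germ W' y hy s := by
    intro y hyS hy hyZ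
    obtain ⟨e, he⟩ := Opens.mem_iSup.1 hyS
    rw [← germ_res F (le_iSup (fun e : ι => e.1.1) e) σ y he,
      show res F (le_iSup (fun e : ι => e.1.1) e) σ = e.1.2 from hσ e, e.2.2 y he hy hyZ]
  by_contra hcon
  have hxS : x ∉ S := fun hx => by
    obtain ⟨e, he⟩ := Opens.mem_iSup.1 hx
    exact hcon ⟨e.1.1, e.1.2, he, e.2.2⟩
  -- the ideal of `V ∖ S`
  let I : Ideal Γ(X, V) :=
    { carrier := {a | X.basicOpen a ≤ S}
      add_mem' := fun {a b} ha hb y hy => by
        by_cases hya : y ∈ X.basicOpen a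
        · exact ha hya
        · by_cases hyb : y ∈ X.basicOpen b
          · exact hb hyb
          · have hyV := X.basicOpen_le _ hy
            rw [← mem_primeAt_iff hV hyV] at hya hyb
            exact absurd hy ((mem_primeAt_iff hV hyV (a + b)).1 (Ideal.add_mem _ hya hyb))
      zero_mem' := by
        show X.basicOpen (0 : Γ(X, V)) ≤ S
        rw [Scheme.basicOpen_zero]; exact bot_le
      smul_mem' := fun c a ha => by
        show X.basicOpen (c * a) ≤ S
        rw [Scheme.basicOpen_mul]; exact inf_le_right.trans ha }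
  have hIx : I ≤ primeAt hV hxV := fun a ha => (mem_primeAt_iff hV hxV a).2 fun hxa => hxS (ha hxa)
  obtain ⟨P, hP, hPx⟩ := Ideal.exists_minimalPrimes_le (J := primeAt hV hxV) hIx
  haveI := hP.isPrime
  obtain ⟨y, hyV, rfl⟩ := exists_point hV P
  have hyx : y ⤳ x := (specializes_iff hV hyV hxV).2 hPx
  have hyS : y ∉ S := fun hy => by
    obtain ⟨f, hf, hyf⟩ := hV.exists_basicOpen_le (⟨y, hy⟩ : S) hyV
    exact (mem_primeAt_iff hV hyV f).1 (hP.1.2 hf) hyf
  have hyZ : y ∈ Z := hoff y hyV hyS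
  have hlift : ∀ q ∈ primeAt hV hyV, ∃ r ∉ primeAt hV hyV, r * q ∈ I := by
    intro q hq
    by_contra! hc
    have hdisj : Disjoint (I : Set Γ(X, V)) (((primeAt hV hyV).primeCompl ⊔ Submonoid.powers q :
        Submonoid Γ(X, V)) : Set Γ(X, V)) := by
      rw [Set.disjoint_left]
      intro z hz hz'
      obtain ⟨c, hcp, d, ⟨k, rfl⟩, rfl⟩ := Submonoid.mem_sup.1 hz'
      refine hc c hcp ?_
      show X.basicOpen (c * q) ≤ S
      rcases k with _ | k
      · exact absurd (hP.1.2 hz) (by simpa using hcp)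
      · refine le_trans (le_of_eq ?_) (hz : X.basicOpen (c * q ^ (k + 1)) ≤ S)
        rw [Scheme.basicOpen_mul, Scheme.basicOpen_mul, show X.basicOpen (q ^ (k + 1)) = X.basicOpen q from X.basicOpen_pow q (Nat.succ_pos k)]
    obtain ⟨Q, hQ, hle, hdis⟩ := Ideal.exists_le_prime_disjoint _ _ hdisj
    have hQy : Q ≤ primeAt hV hyV := fun z hz => by
      by_contra hzp
      exact Set.disjoint_left.1 hdis hz (Submonoid.mem_sup_left hzp)
    exact Set.disjoint_left.1 hdis (hP.2 ⟨hQ, hle⟩ hQy hq) (Submonoid.mem_sup_right ⟨1, by simp⟩)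
  -- an extension at `y` contradicts `y ∉ S`
  suffices hext : ∃ (N : X.Opens) (g : Γ(F, N)), y ∈ N ∧ N ≤ V ∧
      ∀ (z : X) (hz : z ∈ N) (hz' : z ∈ S), F.presheaf.germ N z hz g = F.presheaf.germ S z hz' σ by
    obtain ⟨N, g, hyN, hNV, hg⟩ := hext
    refine hyS (Opens.mem_iSup.2 ⟨⟨⟨N, g⟩, hNV, fun z hz hz' hzZ => ?_⟩, hyN⟩)
    rw [hg z hz (hW'S ⟨hNV hz, hz'⟩), hσs z _ hz' hzZ]
  have hd2 := hd y hyx hyZ
  haveI := finite_stalk hF y
  -- a section with germs supported away from generizations of `y`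
  have hzero : ∀ (N : X.Opens) (hNV : N ≤ V) (_ : y ∈ N) (_ : IsCompact (N : Set X)) (d : Γ(F, N ⊓ S)),
      (∀ η : X, η ∈ AssSch.Ass F → η ⤳ y → ∀ hη : η ∈ N ⊓ S, F.presheaf.germ (N ⊓ S) η hη d = 0) →
      ∃ M : X.Opens, y ∈ M ∧ M ≤ N ∧ ∀ (z : X) (hz : z ∈ N ⊓ S), z ∈ M → F.presheaf.germ (N ⊓ S) z hz d = 0 := by
    intro N _ hyN hN d hd0
    obtain ⟨M, hyM, hM⟩ := exists_nbhd_ass (isCompact_of_le hN _ (inf_le_left : N ⊓ S ≤ N)) d y
    refine ⟨M ⊓ N, ⟨hyM, hyN⟩, inf_le_right, fun z hz hzM => ?_⟩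
    by_contra hne
    obtain ⟨η, hηA, hηy, -, hη, hηne⟩ := hM z hz hzM.1 hne
    exact hηne (hd0 η hηA hηy hη)
  rcases subsingleton_or_nontrivial (F.presheaf.stalk y) with hs | hs
  · obtain ⟨M, hyM, hMV, hM⟩ := hzero V le_rfl hyV hV.isCompact (res F inf_le_right σ) fun η hηA hηy hη => by
      exfalso
      obtain ⟨m, hm⟩ := exists_section_of_ass hV hη.1 hηA
      obtain ⟨r, hr, hrm⟩ := exists_smul_eq_zero_of_germ F hV hyV m (Subsingleton.elim _ _)
      exact (notMem_primeAt_iff hV hyV r).2 hr ((specializes_iff hV hη.1 hyV).1 hηy ((hm r).1 hrm))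
    refine ⟨M, 0, hyM, hMV, fun z hz hz' => ?_⟩
    rw [map_zero, ← germ_res F (inf_le_right : V ⊓ S ≤ S) σ z ⟨hMV hz, hz'⟩]
    exact (hM z ⟨hMV hz, hz'⟩ hz).symm
  -- regular elements in `I`
  have hreg : ∀ (N : Type u) [AddCommGroup N] [Module (X.presheaf.stalk y) N],
      (∃ z ∈ maximalIdeal (X.presheaf.stalk y), IsSMulRegular N z) →
      ∃ a ∈ I, IsSMulRegular N (X.presheaf.germ V y hyV a) ∧
        X.presheaf.germ V y hyV a ∈ maximalIdeal (X.presheaf.stalk y) := by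
    rintro N _ _ ⟨z, hz, hzr⟩
    obtain ⟨a, c, hc, rfl⟩ := exists_isUnit_multiplier hV hyV z
    have ha : X.presheaf.germ V y hyV a ∈ maximalIdeal (X.presheaf.stalk y) := by
      obtain ⟨v, rfl⟩ := hc
      simpa using Ideal.mul_mem_left _ (↑v⁻¹ : X.presheaf.stalk y) hz
    obtain ⟨r, hr, hra⟩ := hlift a ((germ_mem_maximalIdeal_iff hV hyV a).1 ha)
    refine ⟨r * a, hra, ?_, ?_⟩
    · rw [map_mul]
      exact (((Scheme.mem_basicOpen _ _ _ hyV).1 ((notMem_primeAt_iff hV hyV r).1 hr)).isSMulRegular N).mul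
        (IsSMulRegular.of_mul hzr)
    · rw [map_mul]; exact Ideal.mul_mem_left _ _ ha
  obtain ⟨a₁, ha₁, ha₁r, ha₁m⟩ := hreg _ (CAlgH3.exists_regular_of_one_le_depth (le_trans (by norm_num) hd2))
  obtain ⟨n₁, t₁', ht₁'⟩ := exists_smul_eq_map F hV a₁ (res F ha₁ σ)
  -- `a₁ ^ (n₁ + 1) σ = t₁` on `D(a₁)`
  let b := a₁ ^ (n₁ + 1)
  have hbr : IsSMulRegular (F.presheaf.stalk y) (X.presheaf.germ V y hyV b) := by
    rw [map_pow]; exact ha₁r.pow _
  have hbm : X.presheaf.germ V y hyV b ∈ maximalIdeal (X.presheaf.stalk y) := by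
    rw [map_pow]; exact Ideal.pow_mem_of_mem _ ha₁m _ (Nat.succ_pos _)
  obtain ⟨t₁, ht₁⟩ : ∃ t₁ : Γ(F, V), ∀ (z : X) (hz : z ∈ X.basicOpen a₁),
      F.presheaf.germ V z (X.basicOpen_le a₁ hz) t₁ =
      X.presheaf.germ V z (X.basicOpen_le a₁ hz) b • F.presheaf.germ S z (ha₁ hz) σ := by
    refine ⟨a₁ • t₁', ?_⟩
    intro z hz
    have e := congr(F.presheaf.germ (X.basicOpen a₁) z hz $ht₁')
    rw [germ_smul', TopCat.Presheaf.germ_res_apply, TopCat.Presheaf.germ_res_apply, germ_res] at e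
    rw [germ_smul', e, smul_smul, ← map_mul, ← pow_succ']
  have hd1 : (1 : ℕ∞) ≤ LocCoh.depth (X.presheaf.stalk y) (QuotSMulTop (X.presheaf.germ V y hyV b) (F.presheaf.stalk y)) := by
    rw [← CAlgH3.depth_quotSMulTop_add_one hbm hbr, show (2 : ℕ∞) = 1 + 1 from one_add_one_eq_two.symm] at hd2
    exact (ENat.add_le_add_iff_right ENat.one_ne_top).1 hd2
  haveI : Nontrivial (QuotSMulTop (X.presheaf.germ V y hyV b) (F.presheaf.stalk y)) := by
    rw [QuotSMulTop, Submodule.Quotient.nontrivial_iff]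
    refine fun htop => CAlgH3.maximal_smul_top_ne_top (R := X.presheaf.stalk y) (M := F.presheaf.stalk y)
      (eq_top_iff.2 (htop.ge.trans fun w hw => ?_))
    obtain ⟨w', -, rfl⟩ := (Submodule.mem_smul_pointwise_iff_exists _ _ _).1 hw
    exact Submodule.smul_mem_smul hbm Submodule.mem_top
  obtain ⟨a₂, ha₂, ha₂r, -⟩ := hreg _ (CAlgH3.exists_regular_of_one_le_depth hd1)
  obtain ⟨k, t₂, ht₂⟩ := exists_smul_eq_map F hV a₂ (res F ha₂ σ)
  have hcross : res F (X.basicOpen_le (a₁ * a₂)) (a₂ ^ k • t₁ - b • t₂) = 0 := by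
    refine eq_of_germ F _ _ fun z hz => ?_
    have hz12 : z ∈ X.basicOpen a₁ ∧ z ∈ X.basicOpen a₂ := by
      rw [← Opens.mem_inf, ← Scheme.basicOpen_mul]; exact hz
    have e := congr(F.presheaf.germ (X.basicOpen a₂) z hz12.2 $ht₂)
    rw [germ_smul', TopCat.Presheaf.germ_res_apply, TopCat.Presheaf.germ_res_apply, germ_res] at e
    rw [germ_res, map_sub, map_zero, germ_smul', germ_smul', e, ht₁ z hz12.1, smul_comm, sub_self]
  obtain ⟨j, hj⟩ := exists_pow_smul_eq_zero F hV (a₁ * a₂) _ hcross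
  have hμ : F.presheaf.germ V y hyV t₁ ∈ X.presheaf.germ V y hyV b • (⊤ : Submodule (X.presheaf.stalk y) (F.presheaf.stalk y)) := by
    have e := congr(F.presheaf.germ V y hyV $hj)
    rw [germ_smul', map_zero, map_pow, map_mul, mul_pow, mul_smul] at e
    replace e := (ha₁r.pow j).right_eq_zero_of_smul e
    rw [map_sub, germ_smul', germ_smul', smul_sub, sub_eq_zero, map_pow, smul_smul, ← pow_add, smul_comm] at e
    rw [← Submodule.Quotient.mk_eq_zero]
    refine (ha₂r.pow (j + k)).right_eq_zero_of_smul ?_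
    rw [← Submodule.Quotient.mk_smul, Submodule.Quotient.mk_eq_zero, e]
    exact Submodule.smul_mem_pointwise_smul _ _ _ Submodule.mem_top
  obtain ⟨μ, -, hμ⟩ := (Submodule.mem_smul_pointwise_iff_exists _ _ _).1 hμ
  obtain ⟨N₁, hyN₁, g₁, rfl⟩ := F.presheaf.exists_germ_eq μ
  have e : F.presheaf.germ (N₁ ⊓ V) y ⟨hyN₁, hyV⟩
      (X.presheaf.map (homOfLE (inf_le_right : N₁ ⊓ V ≤ V)).op b • res F (inf_le_left : N₁ ⊓ V ≤ N₁) g₁) =
      F.presheaf.germ V y hyV t₁ := by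
    rw [germ_smul', TopCat.Presheaf.germ_res_apply, germ_res]; exact hμ
  obtain ⟨N₂, hyN₂, i, i', e₂⟩ := F.presheaf.germ_eq y _ _ _ _ e
  obtain ⟨N, hN, hyN, hNN₂⟩ := exists_isAffineOpen_mem_and_subset (x := y) (U := N₂) hyN₂
  have hN1 : N ≤ N₁ ⊓ V := le_trans hNN₂ (leOfHom i)
  have hbg : ∀ (z : X) (hz : z ∈ N), X.presheaf.germ V z (hN1 hz).2 b • F.presheaf.germ N₁ z (hN1 hz).1 g₁ =
      F.presheaf.germ V z (hN1 hz).2 t₁ := fun z hz => by
    have := congr(F.presheaf.germ N₂ z (hNN₂ hz) $e₂)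
    rw [TopCat.Presheaf.germ_res_apply, TopCat.Presheaf.germ_res_apply, germ_smul',
      TopCat.Presheaf.germ_res_apply, germ_res] at this
    exact this
  let d := res F (inf_le_left.trans (hN1.trans inf_le_left) : N ⊓ S ≤ N₁) g₁ - res F (inf_le_right : N ⊓ S ≤ S) σ
  obtain ⟨M, hyM, hMN, hM⟩ := hzero N (hN1.trans inf_le_right) hyN hN.isCompact d fun η hηA hηy hη => by
    by_cases hηa : η ∈ X.basicOpen a₁
    · rw [map_sub, germ_res, germ_res, sub_eq_zero]
      refine (((Scheme.mem_basicOpen _ _ _ (hN1 hη.1).2).1 hηa).pow (n₁ + 1)).smul_left_cancel.1 ?_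
      rw [← map_pow]
      exact (hbg η hη.1).trans (ht₁ η hηa)
    · exfalso
      have hηV : η ∈ V := (hN1 hη.1).2
      obtain ⟨m, hm⟩ := exists_section_of_ass hV hηV hηA
      have h0 : F.presheaf.germ V y hyV m = 0 := by
        refine ha₁r.right_eq_zero_of_smul ?_
        rw [← germ_smul', (hm a₁).2 ((mem_primeAt_iff hV hηV a₁).2 hηa), map_zero]
      obtain ⟨r, hr, hrm⟩ := exists_smul_eq_zero_of_germ F hV hyV m h0
      exact (notMem_primeAt_iff hV hyV r).2 hr ((specializes_iff hV hηV hyV).1 hηy ((hm r).1 hrm))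
  refine ⟨M, res F (hMN.trans (hN1.trans inf_le_left)) g₁, hyM, hMN.trans (hN1.trans inf_le_right), fun z hz hz' => ?_⟩
  have := hM z ⟨hMN hz, hz'⟩ hz
  rw [map_sub, germ_res, germ_res, sub_eq_zero] at this
  rw [germ_res]
  exact this

/-- Purity at a point and depth one. -/
theorem pureAt_iff_depth (hZ : StableUnderSpecialization Z) (x : X) :
    PureAt Z F x ↔ ∀ y : X, y ⤳ x → y ∈ Z →
      (1 : ℕ∞) ≤ LocCoh.depth (X.presheaf.stalk y) (F.presheaf.stalk y) := by
  rw [pureAt_iff_ass hZ]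
  refine forall_congr' fun y => imp_congr_right fun _ => imp_congr_right fun _ => ?_
  haveI := finite_stalk hF y
  rcases subsingleton_or_nontrivial (F.presheaf.stalk y) with hs | hs
  · refine ⟨fun _ => by rw [CAlgH3.depth_eq_top_of_subsingleton]; exact le_top, fun _ h => ?_⟩
    haveI := nontrivial_of_ass h
    exact not_subsingleton _ hs
  · rw [CAlgH3.one_le_depth_iff]; rfl

/-- Closedness at a point and depth two. -/
theorem closedAt_iff_depth (hZ : StableUnderSpecialization Z) (x : X) :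
    ZClos.IsZClosedAt Z F x ↔ ∀ y : X, y ⤳ x → y ∈ Z →
      (2 : ℕ∞) ≤ LocCoh.depth (X.presheaf.stalk y) (F.presheaf.stalk y) := by
  rw [isZClosedAt_iff hZ]
  refine ⟨fun h y hy hyZ => depth_two_of_closedAt hF hZ h.1 h.2 hy hyZ, fun h => ?_⟩
  have hp : PureAt Z F x := (pureAt_iff_depth hF hZ x).2 fun y hy hyZ => le_trans (by norm_num) (h y hy hyZ)
  exact ⟨hp, extAt_of_depth hF hZ hp h⟩

end Groth.Agent.ZClosLib
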