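import Groth.Agent.ZClosLib.Criterion

/-!
# The intrinsic criteria are local
-/

set_option autoImplicit false

universe u

open CategoryTheory CategoryTheory.Limits AlgebraicGeometry TopologicalSpace Opposite

namespace Groth.Agent.ZClosLib

variable {X Y : Scheme.{u}}

theorem germ_eq_iff (F : X.Modules) {W W' : X.Opens} {y : X} (hy : y ∈ W) (hy' : y ∈ W')
    (s : Γ(F, W)) (t : Γ(F, W')) :
    F.presheaf.germ W y hy s = F.presheaf.germ W' y hy' t ↔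
      ∃ (N : X.Opens) (h : N ≤ W) (h' : N ≤ W'), y ∈ N ∧ res F h s = res F h' t := by
  constructor
  · intro e
    obtain ⟨N, hyN, i, i', e'⟩ := F.presheaf.germ_eq y hy hy' s t e
    exact ⟨N, leOfHom i, leOfHom i', hyN, e'⟩
  · rintro ⟨N, h, h', hyN, e⟩
    rw [← germ_res F h s y hyN, e, germ_res]

variable (j : Y ⟶ X) [IsOpenImmersion j] (F : X.Modules)

/-- Equality of germs in the restriction is equality of germs. -/
theorem germ_restrict_iff {W W' : Y.Opens} {y : Y} (hy : y ∈ W) (hy' : y ∈ W')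
    (s : Γ((Scheme.Modules.restrictFunctor j).obj F, W)) (t : Γ((Scheme.Modules.restrictFunctor j).obj F, W')) :
    ((Scheme.Modules.restrictFunctor j).obj F).presheaf.germ W y hy s =
        ((Scheme.Modules.restrictFunctor j).obj F).presheaf.germ W' y hy' t ↔
      F.presheaf.germ (j ''ᵁ W) (j y) ⟨y, hy, rfl⟩ s = F.presheaf.germ (j ''ᵁ W') (j y) ⟨y, hy', rfl⟩ t := by
  rw [germ_eq_iff, germ_eq_iff]
  constructor
  · rintro ⟨N, h, h', hyN, e⟩
    exact ⟨j ''ᵁ N, Scheme.Hom.image_mono _ h, Scheme.Hom.image_mono _ h', ⟨y, hyN, rfl⟩, e⟩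
  · rintro ⟨N, h, h', hyN, e⟩
    have hN : j ''ᵁ j ⁻¹ᵁ N ≤ N := j.image_preimage_le N
    have h1 : j ⁻¹ᵁ N ≤ W := fun z hz => by
      obtain ⟨w, hw, hwz⟩ := h hz
      exact j.isOpenEmbedding.injective hwz ▸ hw
    have h1' : j ⁻¹ᵁ N ≤ W' := fun z hz => by
      obtain ⟨w, hw, hwz⟩ := h' hz
      exact j.isOpenEmbedding.injective hwz ▸ hw
    refine ⟨j ⁻¹ᵁ N, h1, h1', hyN, ?_⟩
    show res F (Scheme.Hom.image_mono j h1) s = res F (Scheme.Hom.image_mono j h1') t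
    rw [← res_res F h hN s, e]
    exact res_res F h' hN t

variable (Z : Set X) (y : Y)

theorem pureAt_restrict :
    PureAt (j.base ⁻¹' Z) ((Scheme.Modules.restrictFunctor j).obj F) y ↔ PureAt Z F (j y) := by
  set G := (Scheme.Modules.restrictFunctor j).obj F
  have hiff : ∀ (W : Y.Opens) (z : Y) (hz : z ∈ W) (s : Γ(G, W)),
      G.presheaf.germ W z hz s = 0 ↔ F.presheaf.germ (j ''ᵁ W) (j z) ⟨z, hz, rfl⟩ s = 0 := fun W z hz s => by
    have h := germ_restrict_iff j F hz hz s 0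
    rw [map_zero, show F.presheaf.germ (j ''ᵁ W) (j z) ⟨z, hz, rfl⟩ (0 : Γ(G, W)) = 0 from map_zero _] at h
    exact h
  constructor
  · intro h W s hx hs
    have hle : j ''ᵁ j ⁻¹ᵁ W ≤ W := j.image_preimage_le W
    have := (hiff (j ⁻¹ᵁ W) y hx (res F hle s)).1 (h (j ⁻¹ᵁ W) (res F hle s) hx fun z hz hzZ =>
      (hiff (j ⁻¹ᵁ W) z hz (res F hle s)).2 ((germ_res F hle s _ _).trans (hs (j z) hz hzZ)))
    exact (germ_res F hle s _ _).symm.trans this
  · intro h W s hy hs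
    refine (hiff W y hy s).2 (h (j ''ᵁ W) s ⟨y, hy, rfl⟩ fun z hz hzZ => ?_)
    obtain ⟨w, hw, rfl⟩ := hz
    exact (hiff W w hw s).1 (hs w hw hzZ)

theorem extAt_restrict :
    ExtAt (j.base ⁻¹' Z) ((Scheme.Modules.restrictFunctor j).obj F) y ↔ ExtAt Z F (j y) := by
  set G := (Scheme.Modules.restrictFunctor j).obj F
  constructor
  · intro h W W' s hxW hW hoff
    have hle : j ''ᵁ j ⁻¹ᵁ W' ≤ W' := j.image_preimage_le W'
    obtain ⟨N, f, hyN, hf⟩ := h (j ⁻¹ᵁ W) (j ⁻¹ᵁ W') (res F hle s) hxW (fun z hz => hW hz)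
      fun z hz hz' => hoff (j z) hz hz'
    refine ⟨j ''ᵁ N, f, ⟨y, hyN, rfl⟩, fun z hzN hz hzZ => ?_⟩
    obtain ⟨w, hw, rfl⟩ := hzN
    exact ((germ_restrict_iff j F hw hz f _).1 (hf w hw hz hzZ)).trans (germ_res F hle s _ _)
  · intro h W W' s hyW hW hoff
    have hoff' : ∀ z ∈ j ''ᵁ W, z ∉ j ''ᵁ W' → z ∈ Z := by
      rintro _ ⟨w, hw, rfl⟩ hz'
      exact hoff w hw fun hw' => hz' ⟨w, hw', rfl⟩
    obtain ⟨N, f, hyN, hf⟩ := h (j ''ᵁ W) (j ''ᵁ W') s ⟨y, hyW, rfl⟩ (Scheme.Hom.image_mono _ hW) hoff'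
    have hle : j ''ᵁ j ⁻¹ᵁ N ≤ N := j.image_preimage_le N
    refine ⟨j ⁻¹ᵁ N, res F hle f, hyN, fun z hz hz' hzZ => ?_⟩
    exact (germ_restrict_iff j F hz hz' (res F hle f) s).2
      ((germ_res F hle f _ _).trans (hf (j z) hz ⟨z, hz', rfl⟩ hzZ))

end Groth.Agent.ZClosLib
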