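import Groth.Agent.ZClosLib.Depth
import Groth.Agent.ZClosLib.Restrict
import Mathlib.AlgebraicGeometry.Properties
import Mathlib.RingTheory.KrullDimension.Module

/-!
# Consequences for coherent Z-closures
-/

set_option autoImplicit false

universe u

open CategoryTheory CategoryTheory.Limits AlgebraicGeometry TopologicalSpace Opposite IsLocalRing
open Groth.Agent.QCohLoc Groth.Agent.AssSch12

namespace Groth.Agent.ZClosLib

variable {X : Scheme.{u}} {Z : Set X}

theorem stalkMap_smul {F G : X.Modules} (φ : F ⟶ G) (y : X) (c : X.presheaf.stalk y)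
    (z : F.presheaf.stalk y) : stalkMap φ y (c • z) = c • stalkMap φ y z := by
  obtain ⟨U, hyU, r, rfl⟩ := X.presheaf.exists_germ_eq c
  obtain ⟨W, hyW, s, rfl⟩ := F.presheaf.exists_germ_eq z
  rw [← TopCat.Presheaf.germ_res_apply X.presheaf (homOfLE (inf_le_left : U ⊓ W ≤ U)) y ⟨hyU, hyW⟩,
    ← germ_res F (inf_le_right : U ⊓ W ≤ W) s y ⟨hyU, hyW⟩, ← germ_smul', stalkMap_germ,
    Scheme.Modules.Hom.app_smul, germ_smul', stalkMap_germ]

/-- `ρ` on stalks as a linear map. -/
noncomputable def rhoLin (F : X.Modules) (y : X) :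
    F.presheaf.stalk y →ₗ[X.presheaf.stalk y] ((ZClos.H0 Z).obj F).presheaf.stalk y where
  toFun := ZClos.rhoStalk Z F y
  map_add' a b := map_add _ a b
  map_smul' c z := stalkMap_smul (ZClos.rhoApp Z F) y c z

/-- Outside `Z` the stalks of `F` and of its closure agree. -/
noncomputable def rhoEquiv (F : X.Modules) {y : X} (hy : y ∉ Z) :
    F.presheaf.stalk y ≃ₗ[X.presheaf.stalk y] ((ZClos.H0 Z).obj F).presheaf.stalk y :=
  LinearEquiv.ofBijective (rhoLin F y) (bijective_rhoStalk F hy)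

variable [IsLocallyNoetherian X]

theorem mem_ass_H0 {F : X.Modules} {y : X} (hy : y ∉ Z) (h : y ∈ AssSch.Ass F) :
    y ∈ AssSch.Ass ((ZClos.H0 Z).obj F) := by
  show maximalIdeal (X.presheaf.stalk y) ∈ associatedPrimes (X.presheaf.stalk y) _
  rw [← LinearEquiv.AssociatedPrimes.eq (rhoEquiv F hy)]
  exact h

theorem dimGe_stable (n : ℕ) : StableUnderSpecialization (ZClos.dimGe X n) := by
  intro a b hab ha
  show (n : WithBot ℕ∞) ≤ ringKrullDim (X.presheaf.stalk b)
  refine le_trans ha ?_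
  rw [ringKrullDim_stalk_eq_coheight, ringKrullDim_stalk_eq_coheight]
  exact WithBot.coe_le_coe.2 (Order.coheight_anti (Scheme.le_iff_specializes.2 hab))

theorem le_one_of_lt_two {k : WithBot ℕ∞} (h : k < 2) : k ≤ 1 := by
  induction k using WithBot.recBotCoe with
  | bot => exact bot_le
  | coe k =>
    rw [show (2 : WithBot ℕ∞) = ((2 : ℕ∞) : WithBot ℕ∞) from rfl, WithBot.coe_lt_coe] at h
    rw [show (1 : WithBot ℕ∞) = ((1 : ℕ∞) : WithBot ℕ∞) from rfl, WithBot.coe_le_coe]
    exact Order.le_of_lt_add_one (by rwa [one_add_one_eq_two])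

theorem one_le_depth_of_notMem_ass {F : X.Modules} (hF : Coh.IsCoh F) {y : X}
    (h : y ∉ AssSch.Ass F) : (1 : ℕ∞) ≤ LocCoh.depth (X.presheaf.stalk y) (F.presheaf.stalk y) := by
  haveI := finite_stalk hF y
  rcases subsingleton_or_nontrivial (F.presheaf.stalk y) with hs | hs
  · rw [CAlgH3.depth_eq_top_of_subsingleton]; exact le_top
  · rw [CAlgH3.one_le_depth_iff]; exact h

/-- `(S₂)` holds at points of codimension at most one which are not embedded. -/
theorem s2_of_small {F : X.Modules} (hF : Coh.IsCoh F)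
    (hass : ∀ x ∈ AssSch.Ass F, ringKrullDim (X.presheaf.stalk x) ≠ 1) {y : X}
    (hy : y ∉ ZClos.dimGe X 2) :
    min (2 : WithBot ℕ∞) (Module.supportDim (X.presheaf.stalk y) (F.presheaf.stalk y)) ≤
      ((LocCoh.depth (X.presheaf.stalk y) (F.presheaf.stalk y) : ℕ∞) : WithBot ℕ∞) := by
  have hd : ringKrullDim (X.presheaf.stalk y) ≤ 1 := le_one_of_lt_two (not_le.1 hy)
  have hle := (Module.supportDim_le_ringKrullDim (X.presheaf.stalk y) (F.presheaf.stalk y))
  by_cases h1 : y ∈ AssSch.Ass F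
  · have h0 : ringKrullDim (X.presheaf.stalk y) ≤ 0 := by
      have hlt := lt_of_le_of_ne hd (hass y h1)
      revert hlt
      generalize ringKrullDim (X.presheaf.stalk y) = k
      induction k using WithBot.recBotCoe with
      | bot => exact fun _ => bot_le
      | coe k =>
        intro hlt
        rw [show (1 : WithBot ℕ∞) = ((1 : ℕ∞) : WithBot ℕ∞) from rfl, WithBot.coe_lt_coe,
          ENat.lt_one_iff_eq_zero] at hlt
        rw [hlt]; rfl
    exact (min_le_right _ _).trans (hle.trans (h0.trans (WithBot.coe_le_coe.2 zero_le)))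
  · exact (min_le_right _ _).trans (hle.trans (hd.trans
      (WithBot.coe_le_coe.2 (one_le_depth_of_notMem_ass hF h1))))

/-- With full support the support dimension of a stalk is the dimension of the local ring. -/
theorem supportDim_stalk_eq {F : X.Modules} (hF : Coh.IsCoh F)
    (hsupp : ∀ x : X, Nontrivial (F.presheaf.stalk x)) (y : X) :
    Module.supportDim (X.presheaf.stalk y) (F.presheaf.stalk y) = ringKrullDim (X.presheaf.stalk y) := by
  haveI := hF.1
  haveI := finite_stalk hF y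
  suffices h : Module.support (X.presheaf.stalk y) (F.presheaf.stalk y) = Set.univ by
    rw [Module.supportDim, h, ringKrullDim]
    exact Order.krullDim_eq_of_orderIso OrderIso.Set.univ
  refine Set.eq_univ_of_forall fun Q => ?_
  rw [Module.mem_support_iff_of_finite]
  obtain ⟨V, hV, hyV, -⟩ := exists_isAffineOpen_mem_and_subset (x := y) (U := (⊤ : X.Opens)) trivial
  intro c hc
  obtain ⟨a, v, hv, rfl⟩ := exists_isUnit_multiplier hV hyV c
  refine Ideal.mul_mem_left _ _ ?_
  by_contra haQ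
  haveI : (Q.asIdeal.comap (X.presheaf.germ V y hyV).hom).IsPrime := Ideal.IsPrime.comap _
  obtain ⟨η, hη, hηeq⟩ := exists_point hV (Q.asIdeal.comap (X.presheaf.germ V y hyV).hom)
  have hηy : η ⤳ y := (specializes_iff hV hη hyV).2 fun b hb => by
    rw [hηeq, Ideal.mem_comap] at hb
    exact (germ_mem_maximalIdeal_iff hV hyV b).1 (le_maximalIdeal Q.2.ne_top hb)
  have hηa : IsUnit (X.presheaf.germ V η hη a) := (Scheme.mem_basicOpen _ _ _ hη).1
    ((notMem_primeAt_iff hV hη a).1 (by rw [hηeq]; exact haQ))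
  haveI := hsupp η
  obtain ⟨w, hw⟩ := exists_ne (0 : F.presheaf.stalk η)
  obtain ⟨f, m, hf, hm⟩ := exists_smul_stalk_eq_germ F hV hη w
  refine hw (((Scheme.mem_basicOpen _ _ _ hη).1 hf).smul_eq_zero.1 (hm.trans (hηa.smul_eq_zero.1 ?_)))
  rw [← germ_smul']
  refine germ_zero_of_specializes hηy hyV _ ?_
  rw [germ_smul']
  refine hv.smul_eq_zero.1 ?_
  rw [smul_smul]
  exact Module.mem_annihilator.1 hc _

/-- The locus where a coherent module is Z-closed is open when the closure is coherent. -/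
theorem isOpen_closedAt (hZ : StableUnderSpecialization Z) {F : X.Modules} (hF : Coh.IsCoh F)
    (hH : Coh.IsCoh ((ZClos.H0 Z).obj F)) : IsOpen {x | ZClos.IsZClosedAt Z F x} := by
  classical
  haveI := hF.1
  haveI := hH.1
  refine isOpen_iff_forall_mem_open.2 fun x hx => ?_
  obtain ⟨W, hW, hxW, -, hass⟩ := exists_affine_noAss hF hZ ((isZPureAt_iff hZ F x).1 hx.1) ⊤ trivial
  obtain ⟨G, hG⟩ := ((Coherent.isCoh_iff_finite_sections _).1 hH).2 W hW |>.fg_top
  have hloc : ∀ h : G, ∃ (N : X.Opens) (f : Γ(F, N)) (hN : N ≤ W), x ∈ N ∧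
      (ZClos.rhoApp Z F).app N f = res _ hN h.1 := fun h => by
    obtain ⟨z, hz⟩ := hx.2 (((ZClos.H0 Z).obj F).presheaf.germ W x hxW h.1)
    obtain ⟨N, hxN, f, rfl⟩ := F.presheaf.exists_germ_eq z
    rw [rhoStalk_germ] at hz
    obtain ⟨M, hxM, i, i', e⟩ := ((ZClos.H0 Z).obj F).presheaf.germ_eq x hxN hxW _ _ hz
    exact ⟨M, res F (leOfHom i) f, leOfHom i', hxM, (app_res _ _ _).trans e⟩
  choose N f hN hxN hf using hloc
  let M : X.Opens := W ⊓ Finset.univ.inf N
  have hxM : x ∈ M := ⟨hxW, by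
    show x ∈ Finset.univ.inf N
    exact Finset.inf_induction (p := fun U : X.Opens => x ∈ U) (Set.mem_univ x) (fun a ha b hb => ⟨ha, hb⟩)
      fun h _ => hxN h⟩
  refine ⟨M, fun z hz => ⟨(isZPureAt_iff hZ F z).2 ((pureAt_iff_ass hZ z).2 fun η hη hηZ hηA =>
    hass η (hη.mem_open W.2 hz.1) hηA hηZ), ?_⟩, M.2, hxM⟩
  intro w
  suffices hw : w ∈ LinearMap.range (rhoLin (Z := Z) F z) by exact hw
  obtain ⟨g, m, hg, hm⟩ := exists_smul_stalk_eq_germ ((ZClos.H0 Z).obj F) hW hz.1 w
  rw [← Submodule.smul_mem_iff_of_isUnit _ ((Scheme.mem_basicOpen _ _ _ hz.1).1 hg), hm]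
  clear hm
  have hmem : m ∈ Submodule.span Γ(X, W) (G : Set Γ((ZClos.H0 Z).obj F, W)) := hG.ge trivial
  induction hmem using Submodule.span_induction with
  | mem a ha =>
    have hzN : z ∈ N ⟨a, ha⟩ := (Finset.inf_le (f := N) (Finset.mem_univ (⟨a, ha⟩ : G))) hz.2
    refine ⟨F.presheaf.germ (N ⟨a, ha⟩) z hzN (f ⟨a, ha⟩), ?_⟩
    show ZClos.rhoStalk Z F z _ = _
    rw [rhoStalk_germ, hf, germ_res]
  | zero => rw [map_zero]; exact zero_mem _
  | add a b _ _ ha hb => rw [map_add]; exact add_mem ha hb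
  | smul r a _ ha => rw [germ_smul']; exact Submodule.smul_mem _ _ ha

/-- The prime of a generization which is an associated point is associated in the stalk. -/
theorem comap_mem_associatedPrimes {H : X.Modules} [H.IsQuasicoherent] {x y : X} (h : x ⤳ y)
    (hx : x ∈ AssSch.Ass H) :
    (maximalIdeal (X.presheaf.stalk x)).comap (X.presheaf.stalkSpecializes h).hom ∈
      associatedPrimes (X.presheaf.stalk y) (H.presheaf.stalk y) := by
  obtain ⟨V, hV, hyV, -⟩ := exists_isAffineOpen_mem_and_subset (x := y) (U := (⊤ : X.Opens)) trivial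
  have hxV : x ∈ V := h.mem_open V.2 hyV
  obtain ⟨m, hm⟩ := exists_section_of_ass hV hxV hx
  refine (isAssociatedPrime_iff (R := X.presheaf.stalk y)).2 ⟨inferInstance, H.presheaf.germ V y hyV m, ?_⟩
  ext c
  rw [Submodule.mem_colon_singleton, Submodule.mem_bot, Ideal.mem_comap]
  obtain ⟨a, v, hv, rfl⟩ := exists_isUnit_multiplier hV hyV c
  rw [mul_smul, hv.smul_eq_zero, map_mul, Ideal.unit_mul_mem_iff_mem _ (hv.map _),
    show (X.presheaf.stalkSpecializes h).hom (X.presheaf.germ V y hyV a) = X.presheaf.germ V x hxV a from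
      TopCat.Presheaf.germ_stalkSpecializes_apply _ hyV h a,
    germ_mem_maximalIdeal_iff hV hxV, ← germ_smul', ← hm]
  refine ⟨fun e => by rw [e, map_zero], fun e => (hm _).2 ?_⟩
  obtain ⟨r, hr, hrm⟩ := exists_smul_eq_zero_of_germ H hV hyV _ e
  rw [smul_smul, hm] at hrm
  exact ((hV.primeIdealOf ⟨x, hxV⟩).2.mem_or_mem hrm).resolve_left fun hc =>
    (notMem_primeAt_iff hV hyV r).2 hr ((specializes_iff hV hxV hyV).1 h hc)

end Groth.Agent.ZClosLib
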