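import Groth.Agent.ZClosLib.Depth
import Groth.Agent.Coherent.QcohOps
import Groth.Agent.SerreDual.QCohCat

/-!
# Quasi-coherence of the Z-closure
-/

set_option autoImplicit false

universe u

open CategoryTheory CategoryTheory.Limits AlgebraicGeometry TopologicalSpace Opposite

namespace Groth.Agent.ZClosLib

variable {X : Scheme.{u}} [IsLocallyNoetherian X]

theorem isQCoh_resPush (U : X.Opens) (F : X.Modules) (hF : Coh.IsQCoh F) :
    Coh.IsQCoh ((ZClos.resPush U).obj F) := by
  haveI := hF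
  haveI : Coh.IsQCoh ((Scheme.Modules.restrictFunctor U.ι).obj F) :=
    inferInstanceAs (((Scheme.Modules.restrictFunctor U.ι).obj F).IsQuasicoherent)
  exact Coherent.isQCoh_push U.ι ((Scheme.Modules.restrictFunctor U.ι).obj F)

theorem isQCoh_H0 (Z : Set X) (F : X.Modules) (hF : Coh.IsQCoh F) :
    Coh.IsQCoh ((ZClos.H0 Z).obj F) :=
  SerreDual.isQCoh_colimit X ((ZClos.diagram Z).obj F) fun T => isQCoh_resPush T.U F hF

/-- For a Z-pure module the stages map injectively into the closure. -/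
theorem mono_ι_of_pure {Z : Set X} (F : X.Modules) (hp : ∀ x, PureAt Z F x) (T : ZClos.Cl Z) :
    Mono (colimit.ι ((ZClos.diagram Z).obj F) T) := by
  refine mono_of_injective_stalk _ fun x => (injective_iff_map_eq_zero _).2 fun z hz => ?_
  obtain ⟨W, hxW, s, rfl⟩ := (((ZClos.diagram Z).obj F).obj T).presheaf.exists_germ_eq z
  erw [stalkMap_germ] at hz
  erw [← map_zero (((ZClos.H0 Z).obj F).presheaf.germ W x hxW).hom] at hz
  obtain ⟨N, hxN, i, i', e⟩ := ((ZClos.H0 Z).obj F).presheaf.germ_eq x hxW hxW _ _ hz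
  replace e : (colimit.ι ((ZClos.diagram Z).obj F) T).app N
      (res (((ZClos.diagram Z).obj F).obj T) (leOfHom i) s) = 0 :=
    ((app_res _ _ _).trans e).trans (map_zero _)
  let t : Γ(F, T.U.ι ''ᵁ T.U.ι ⁻¹ᵁ N) := res (((ZClos.diagram Z).obj F).obj T) (leOfHom i) s
  have h0 : t = 0 := eq_zero_of_pure (fun y _ => hp y) t fun y hy hyZ => (bijective_rhoStalk F hyZ).1 (by
    rw [← germ_ι F T t y hy, map_zero]
    exact (congrArg _ e).trans (map_zero _))
  rw [← germ_res (((ZClos.diagram Z).obj F).obj T) (leOfHom i) s x hxN]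
  show (((ZClos.diagram Z).obj F).obj T).presheaf.germ N x hxN t = 0
  rw [h0]
  exact map_zero _

end Groth.Agent.ZClosLib
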