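import Groth.Agent.ZClosLib.Criterion

/-!
# The universal property of the Z-closure
-/

set_option autoImplicit false

universe u

open CategoryTheory CategoryTheory.Limits AlgebraicGeometry TopologicalSpace Opposite

namespace Groth.Agent.ZClosLib

variable {X : Scheme.{u}} [IsLocallyNoetherian X] {Z : Set X} (hZ : StableUnderSpecialization Z)
include hZ

omit hZ [IsLocallyNoetherian X] in
theorem stalkMap_rho (F : X.Modules) (y : X) :
    stalkMap (ZClos.rhoApp Z F) y = ZClos.rhoStalk Z F y := rfl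

omit hZ [IsLocallyNoetherian X] in
/-- Maps out of `H⁰` into a pure module are determined after `ρ`. -/
theorem hom_ext_rho {F F' : X.Modules} (hp : ∀ x, PureAt Z F' x) (v w : (ZClos.H0 Z).obj F ⟶ F')
    (h : ZClos.rhoApp Z F ≫ v = ZClos.rhoApp Z F ≫ w) : v = w := by
  ext W σ
  refine sub_eq_zero.1 (eq_zero_of_pure (fun x _ => hp x) _ fun y hy hyZ => ?_)
  obtain ⟨z, hz⟩ := (bijective_rhoStalk (Z := Z) F hyZ).2 (((ZClos.H0 Z).obj F).presheaf.germ W y hy σ)
  rw [map_sub, ← stalkMap_germ v y hy σ, ← stalkMap_germ w y hy σ, ← hz, ← stalkMap_rho,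
    ← stalkMap_comp_apply, ← stalkMap_comp_apply, h, sub_self]

set_option hygiene false in
local notation "H" => (ZClos.H0 Z).obj F

/-- A stalkwise bijection outside `Z` out of `H⁰` into a closed module is an isomorphism. -/
theorem isIso_of_bijective_off {F F' : X.Modules} (hF' : ∀ x, PureAt Z F' x ∧ ExtAt Z F' x)
    (v : (ZClos.H0 Z).obj F ⟶ F') (hv : ∀ y : X, y ∉ Z → Function.Bijective (stalkMap v y))
    (hH : ∀ x, ExtAt Z ((ZClos.H0 Z).obj F) x) : IsIso v := by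
  have hinj : ∀ {W : X.Opens} (σ : Γ(H, W)), v.app W σ = 0 → σ = 0 := fun {W} σ e =>
    H0_pure hZ F σ fun y hy hyZ => (hv y hyZ).1 (by rw [stalkMap_germ, e, map_zero, map_zero])
  refine isIso_of_bijective_stalk v fun x => ⟨(injective_iff_map_eq_zero _).2 fun z hz => ?_, fun z => ?_⟩
  · obtain ⟨W, hxW, σ, rfl⟩ := (H).presheaf.exists_germ_eq z
    rw [stalkMap_germ, ← map_zero (F'.presheaf.germ W x hxW).hom] at hz
    obtain ⟨N, h, h', hxN, e⟩ : ∃ (N : X.Opens) (h : N ≤ W) (h' : N ≤ W), x ∈ N ∧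
        res F' h (v.app W σ) = res F' h' 0 := by
      obtain ⟨N, hxN, i, i', e⟩ := F'.presheaf.germ_eq x hxW hxW _ _ hz
      exact ⟨N, leOfHom i, leOfHom i', hxN, e⟩
    rw [← germ_res H h σ x hxN, hinj (res H h σ) (by rw [app_res, e]; exact map_zero _), map_zero]
  · obtain ⟨W, hxW, f, rfl⟩ := F'.presheaf.exists_germ_eq z
    -- the open on which `f` lifts
    let ι : Type u := {p : Σ N : X.Opens, Γ(H, N) // ∃ hle : p.1 ≤ W, v.app p.1 p.2 = res F' hle f}
    let W' : X.Opens := ⨆ p : ι, p.1.1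
    have hW' : W' ≤ W := iSup_le fun p => p.2.1
    have hoff : ∀ y ∈ W, y ∉ W' → y ∈ Z := fun y hy hy' => by
      by_contra hyZ
      obtain ⟨w, hw⟩ := (hv y hyZ).2 (F'.presheaf.germ W y hy f)
      obtain ⟨N, hyN, σ, rfl⟩ := (H).presheaf.exists_germ_eq w
      rw [stalkMap_germ] at hw
      obtain ⟨M, hyM, i, i', e⟩ := F'.presheaf.germ_eq y hyN hy _ _ hw
      exact hy' (Opens.mem_iSup.2 ⟨⟨⟨M, res H (leOfHom i) σ⟩, leOfHom i', (app_res _ _ _).trans e⟩, hyM⟩)
    have hcompat : ∀ p q : ι, res H (inf_le_left : p.1.1 ⊓ q.1.1 ≤ p.1.1) p.1.2 =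
        res H (inf_le_right : p.1.1 ⊓ q.1.1 ≤ q.1.1) q.1.2 := fun p q => by
      obtain ⟨hp, ep⟩ := p.2
      obtain ⟨hq, eq⟩ := q.2
      refine sub_eq_zero.1 (hinj _ ?_)
      rw [map_sub, app_res, app_res, ep, eq, res_res, res_res, sub_self]
    obtain ⟨τ, hτ, -⟩ := TopCat.Sheaf.existsUnique_gluing' ⟨(H).presheaf, (H).isSheaf⟩
      (fun p : ι => p.1.1) W' (fun p => homOfLE (le_iSup (fun p : ι => p.1.1) p)) le_rfl
      (fun p => p.1.2) hcompat
    obtain ⟨N, σ, hxN, hσ⟩ := hH x W W' τ hxW hW' hoff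
    refine ⟨(H).presheaf.germ (N ⊓ W) x ⟨hxN, hxW⟩ (res H inf_le_left σ), ?_⟩
    rw [stalkMap_germ, ← germ_res F' (inf_le_right : N ⊓ W ≤ W) f x ⟨hxN, hxW⟩]
    congr 1
    refine sub_eq_zero.1 (eq_zero_of_pure (fun y _ => (hF' y).1) _ fun y hy hyZ => ?_)
    have hy' : y ∈ W' := by
      by_contra hc
      exact hyZ (hoff y hy.2 hc)
    obtain ⟨p, hp⟩ := Opens.mem_iSup.1 hy'
    obtain ⟨hle, ep⟩ := p.2
    rw [map_sub, sub_eq_zero, ← stalkMap_germ v y hy, germ_res, hσ y hy.1 hy' hyZ,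
      ← germ_res H (le_iSup (fun p : ι => p.1.1) p) τ y hp,
      show res H (le_iSup (fun p : ι => p.1.1) p) τ = p.1.2 from hτ p,
      stalkMap_germ, ep, germ_res, germ_res]

end Groth.Agent.ZClosLib
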