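import Groth.Agent.ZClosLib.Universal
import Groth.Agent.ZClosLib.QCoh
import Groth.Agent.ZClosLib.DepthApps
import Groth.Agent.Flatn12.PullbackSections
import Groth.Agent.EGA43.InjFibre.Scheme
import Groth.Agent.ModStalk.Pullback
import Mathlib.AlgebraicGeometry.Morphisms.Flat
import Mathlib.LinearAlgebra.TensorProduct.Pi
import Mathlib.RingTheory.Flat.Basic

/-!
# The Z-closure under flat pullback
-/

set_option autoImplicit false

universe u

open CategoryTheory CategoryTheory.Limits AlgebraicGeometry TopologicalSpace Opposite TensorProduct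
open Groth.Agent.QCohLoc

namespace Groth.Agent.ZClosLib

section algebra

variable {A B : Type u} [CommRing A] [CommRing B] [Algebra A B] [Module.Flat A B]
  {M N : Type u} [AddCommGroup M] [Module A M] [AddCommGroup N] [Module B N]
  {n : ℕ} (g : Fin n → A) (e : B ⊗[A] M ≃ₗ[B] N)

include e

/-- Elements killed by powers of elements whose open restriction is injective vanish after flat base change. -/
theorem eq_zero_of_flat (h : ∀ (k : ℕ) (m : M), (∀ i, g i ^ k • m = 0) → m = 0) (k : ℕ) (x : N)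
    (hx : ∀ i, algebraMap A B (g i) ^ k • x = 0) : x = 0 := by
  let α : M →ₗ[A] (Fin n → M) := LinearMap.pi fun i => g i ^ k • LinearMap.id
  have hα : Function.Injective α := by
    rw [injective_iff_map_eq_zero]
    exact fun m hm => h k m fun i => congrFun hm i
  obtain ⟨z, rfl⟩ := e.surjective x
  have key : ∀ z : B ⊗[A] M, piRight A B B (fun _ : Fin n => M) (α.lTensor B z) =
      fun i => algebraMap A B (g i) ^ k • z := by
    intro z
    induction z using TensorProduct.induction_on with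
    | zero => funext i; simp
    | tmul b m =>
      funext i
      simp only [LinearMap.lTensor_tmul, piRight_apply, piRightHom_tmul]
      show b ⊗ₜ[A] (g i ^ k • m) = _
      rw [TensorProduct.tmul_smul, ← map_pow, algebraMap_smul]
    | add x y hx hy =>
      rw [map_add, map_add, hx, hy]
      funext i
      rw [Pi.add_apply, smul_add]
  have : α.lTensor B z = 0 := by
    refine (piRight A B B (fun _ : Fin n => M)).injective ?_
    rw [key, map_zero]
    funext i
    refine e.injective ?_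
    rw [map_smul, hx i]
    exact (map_zero e).symm
  rw [Module.Flat.lTensor_preserves_injective_linearMap α hα (this.trans (map_zero _).symm), map_zero]

/-- Compatible fractions come from one element after flat base change. -/
theorem exists_of_flat
    (h : ∀ (k : ℕ) (m : Fin n → M), (∀ i j, g j ^ k • m i = g i ^ k • m j) → ∃ m₀, ∀ i, g i ^ k • m₀ = m i)
    (k : ℕ) (x : Fin n → N) (hx : ∀ i j, algebraMap A B (g j) ^ k • x i = algebraMap A B (g i) ^ k • x j) :
    ∃ x₀, ∀ i, algebraMap A B (g i) ^ k • x₀ = x i := by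
  let α : M →ₗ[A] (Fin n → M) := LinearMap.pi fun i => g i ^ k • LinearMap.id
  let δ : (Fin n → M) →ₗ[A] (Fin n × Fin n → M) :=
    LinearMap.pi fun p => g p.2 ^ k • LinearMap.proj p.1 - g p.1 ^ k • LinearMap.proj p.2
  have hex : Function.Exact α δ := by
    intro m
    constructor
    · intro hm
      obtain ⟨m₀, hm₀⟩ := h k m fun i j => sub_eq_zero.1 (congrFun hm (i, j))
      exact ⟨m₀, funext hm₀⟩
    · rintro ⟨m₀, rfl⟩
      funext p
      show g p.2 ^ k • g p.1 ^ k • m₀ - g p.1 ^ k • g p.2 ^ k • m₀ = 0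
      rw [smul_comm, sub_self]
  have keyα : ∀ z : B ⊗[A] M, piRight A B B (fun _ : Fin n => M) (α.lTensor B z) =
      fun i => algebraMap A B (g i) ^ k • z := by
    intro z
    induction z using TensorProduct.induction_on with
    | zero => funext i; simp
    | tmul b m =>
      funext i
      simp only [LinearMap.lTensor_tmul, piRight_apply, piRightHom_tmul]
      show b ⊗ₜ[A] (g i ^ k • m) = _
      rw [TensorProduct.tmul_smul, ← map_pow, algebraMap_smul]
    | add x y hx hy =>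
      rw [map_add, map_add, hx, hy]
      funext i
      rw [Pi.add_apply, smul_add]
  have keyδ : ∀ z : B ⊗[A] (Fin n → M), piRight A B B (fun _ : Fin n × Fin n => M) (δ.lTensor B z) =
      fun p => algebraMap A B (g p.2) ^ k • piRight A B B (fun _ : Fin n => M) z p.1 -
        algebraMap A B (g p.1) ^ k • piRight A B B (fun _ : Fin n => M) z p.2 := by
    intro z
    induction z using TensorProduct.induction_on with
    | zero => funext p; simp
    | tmul b m =>
      funext p
      simp only [LinearMap.lTensor_tmul, piRight_apply, piRightHom_tmul]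
      show b ⊗ₜ[A] (g p.2 ^ k • m p.1 - g p.1 ^ k • m p.2) = _
      rw [TensorProduct.tmul_sub, TensorProduct.tmul_smul, TensorProduct.tmul_smul, ← map_pow, ← map_pow,
        algebraMap_smul, algebraMap_smul]
    | add x y hx hy =>
      rw [map_add, map_add, hx, hy]
      funext p
      rw [Pi.add_apply, map_add, Pi.add_apply, Pi.add_apply, smul_add, smul_add]
      abel
  let w := (piRight A B B (fun _ : Fin n => M)).symm fun i => e.symm (x i)
  have hw : δ.lTensor B w = 0 := by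
    refine (piRight A B B (fun _ : Fin n × Fin n => M)).injective ?_
    rw [keyδ, map_zero]
    funext p
    simp only [w, LinearEquiv.apply_symm_apply, Pi.zero_apply]
    rw [sub_eq_zero, ← map_smul, ← map_smul, hx]
  obtain ⟨z, hz⟩ := (Module.Flat.lTensor_exact B hex w).1 hw
  refine ⟨e z, fun i => ?_⟩
  have := congrFun (keyα z) i
  rw [hz, show piRight A B B (fun _ : Fin n => M) w = fun i => e.symm (x i) from LinearEquiv.apply_symm_apply _ _] at this
  rw [← map_smul, ← this, LinearEquiv.apply_symm_apply]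

end algebra

variable {X X' : Scheme.{u}} (f : X' ⟶ X) [Flat f]

/-- Bijectivity of a restriction to a quasi-compact open ascends along flat pullback, over affines. -/
theorem bijective_res_pullback (G : X.Modules) (hG : Coh.IsQCoh G) {V : X.Opens} (hV : IsAffineOpen V)
    {W : X'.Opens} (hW : IsAffineOpen W) (hWV : W ≤ f ⁻¹ᵁ V) {U : X.Opens} (hUV : U ≤ V)
    (hU : IsCompact (U : Set X)) (hbij : Function.Bijective (res G hUV)) :
    Function.Bijective (res ((Scheme.Modules.pullback f).obj G) (inf_le_left : W ⊓ f ⁻¹ᵁ U ≤ W)) := by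
  classical
  haveI := hG
  haveI := EGA43.InjFibre.isQCoh_pullback f G
  set P := (Scheme.Modules.pullback f).obj G
  have hloc : ∀ x : (U : Set X), ∃ g : Γ(X, V), X.basicOpen g ≤ U ∧ x.1 ∈ X.basicOpen g := fun x =>
    hV.exists_basicOpen_le (⟨x.1, x.2⟩ : U) (hUV x.2)
  choose g0 hg0 hxg using hloc
  obtain ⟨t, ht⟩ := hU.elim_finite_subcover (fun x => (X.basicOpen (g0 x) : Set X))
    (fun x => (X.basicOpen (g0 x)).2) fun x hx => Set.mem_iUnion.2 ⟨⟨x, hx⟩, hxg _⟩
  let g : Fin t.card → Γ(X, V) := fun i => g0 (t.equivFin.symm i).1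
  have hgU : ∀ i, X.basicOpen (g i) ≤ U := fun i => hg0 _
  have hcov : ∀ x ∈ U, ∃ i, x ∈ X.basicOpen (g i) := fun x hx => by
    obtain ⟨y, hy, hxy⟩ := Set.mem_iUnion₂.1 (ht hx)
    exact ⟨t.equivFin ⟨y, hy⟩, by simpa [g] using hxy⟩
  letI : Algebra Γ(X, V) Γ(X', W) := (f.appLE V W hWV).hom.toAlgebra
  haveI : Module.Flat Γ(X, V) Γ(X', W) := f.flat_appLE hV hW hWV
  obtain ⟨e⟩ := Flatn12.nonempty_pullback_sections_equiv f G hV hW hWV
  have hD : ∀ i, X'.basicOpen (algebraMap Γ(X, V) Γ(X', W) (g i)) = W ⊓ f ⁻¹ᵁ X.basicOpen (g i) := fun i =>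
    Scheme.basicOpen_appLE f W V hWV (g i)
  have hDle : ∀ i, X'.basicOpen (algebraMap Γ(X, V) Γ(X', W) (g i)) ≤ W ⊓ f ⁻¹ᵁ U := fun i => by
    rw [hD]; exact inf_le_inf_left W ((Opens.map f.base).map (homOfLE (hgU i))).le
  have hcov' : ∀ y ∈ W ⊓ f ⁻¹ᵁ U, ∃ i, y ∈ X'.basicOpen (algebraMap Γ(X, V) Γ(X', W) (g i)) := fun y hy => by
    obtain ⟨i, hi⟩ := hcov (f y) hy.2
    exact ⟨i, by rw [hD]; exact ⟨hy.1, hi⟩⟩
  -- `G`: injectivity and exactness
  have hker : ∀ (i : Fin t.card) (k : ℕ) (m : Γ(G, V)), g i ^ k • m = 0 →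
      res G (X.basicOpen_le (g i)) m = 0 := fun i k m hm => by
    refine eq_of_germ G (W := X.basicOpen (g i)) _ 0 fun x hx => ?_
    rw [germ_res, map_zero]
    exact AssSch12.germ_eq_zero_of_smul_eq_zero (X.basicOpen_le _ hx) G (r := g i ^ k) (by
      rcases Nat.eq_zero_or_pos k with rfl | hk
      · rw [pow_zero, Scheme.basicOpen_of_isUnit _ isUnit_one]; exact X.basicOpen_le _ hx
      · rwa [X.basicOpen_pow _ hk]) hm
  have hinjG : ∀ (k : ℕ) (m : Γ(G, V)), (∀ i, g i ^ k • m = 0) → m = 0 := fun k m hm => by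
    refine hbij.1 ((eq_of_germ G (res G hUV m) 0 fun x hx => ?_).trans (map_zero _).symm)
    obtain ⟨i, hi⟩ := hcov x hx
    rw [map_zero, germ_res, ← germ_res G (X.basicOpen_le (g i)) m x hi, hker i k m (hm i), map_zero]
  have hexG : ∀ (k : ℕ) (m : Fin t.card → Γ(G, V)), (∀ i j, g j ^ k • m i = g i ^ k • m j) →
      ∃ m₀, ∀ i, g i ^ k • m₀ = m i := by
    intro k m hm
    have hu : ∀ i, IsUnit (M := Γ(X, X.basicOpen (g i)))
        (X.presheaf.map (homOfLE (X.basicOpen_le (g i))).op (g i ^ k)) := fun i => by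
      rw [map_pow]
      exact (RingedSpace.isUnit_res_basicOpen X.toRingedSpace (g i)).pow k
    let s : ∀ i, Γ(G, X.basicOpen (g i)) := fun i =>
      (↑(hu i).unit⁻¹ : Γ(X, X.basicOpen (g i))) • res G (X.basicOpen_le (g i)) (m i)
    have hs : ∀ (i : Fin t.card) (x : X) (hx : x ∈ X.basicOpen (g i)),
        X.presheaf.germ V x (X.basicOpen_le _ hx) (g i ^ k) • G.presheaf.germ _ x hx (s i) =
          G.presheaf.germ V x (X.basicOpen_le _ hx) (m i) := fun i x hx => by
      rw [germ_smul', germ_res, smul_smul,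
        ← TopCat.Presheaf.germ_res_apply X.presheaf (homOfLE (X.basicOpen_le (g i))) x hx, ← map_mul,
        IsUnit.mul_val_inv, map_one, one_smul]
    obtain ⟨σ, hσ, -⟩ := TopCat.Sheaf.existsUnique_gluing' ⟨G.presheaf, G.isSheaf⟩
      (fun i => X.basicOpen (g i)) U (fun i => homOfLE (hgU i))
      (fun x hx => Opens.mem_iSup.2 (hcov x hx)) s fun i j => by
        refine eq_of_germ G (W := X.basicOpen (g i) ⊓ X.basicOpen (g j)) _ _ fun x hx => ?_
        erw [germ_res, germ_res]
        refine ((((Scheme.mem_basicOpen _ _ _ (X.basicOpen_le _ hx.1)).1 hx.1).pow k).mul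
          (((Scheme.mem_basicOpen _ _ _ (X.basicOpen_le _ hx.2)).1 hx.2).pow k)).smul_left_cancel.1 ?_
        rw [← map_pow, ← map_pow]
        conv_lhs => rw [mul_comm, mul_smul, hs i x hx.1]
        rw [mul_smul, hs j x hx.2, ← germ_smul', ← germ_smul', hm i j]
    obtain ⟨m₀, hm₀⟩ := hbij.2 σ
    refine ⟨m₀, fun i => ?_⟩
    refine sub_eq_zero.1 (hbij.1 ((eq_of_germ G (res G hUV _) 0 fun x hx => ?_).trans (map_zero _).symm))
    rw [map_zero, germ_res]
    obtain ⟨j, hj⟩ := hcov x hx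
    have hσj : G.presheaf.germ V x (hUV hx) m₀ = G.presheaf.germ _ x hj (s j) := by
      rw [← germ_res G hUV m₀ x hx, hm₀, ← germ_res G (hgU j) σ x hj,
        show res G (hgU j) σ = s j from hσ j]
    refine (((Scheme.mem_basicOpen _ _ _ (X.basicOpen_le _ hj)).1 hj).pow k).smul_eq_zero.1 ?_
    rw [← map_pow, ← germ_smul', smul_sub, hm i j, ← smul_comm, map_sub, germ_smul' G _ (g i ^ k) (g j ^ k • m₀),
      germ_smul' G _ (g j ^ k) m₀, hσj, hs j x hj, ← germ_smul', sub_self]
  constructor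
  · intro a b hab
    refine sub_eq_zero.1 ?_
    have hz : ∀ i, ∃ k, algebraMap Γ(X, V) Γ(X', W) (g i) ^ k • (a - b) = 0 := fun i => by
      refine exists_pow_smul_eq_zero P hW _ _ ?_
      show res P (X'.basicOpen_le (algebraMap Γ(X, V) Γ(X', W) (g i))) (a - b) = 0
      rw [← res_res P inf_le_left (hDle i), show res P inf_le_left (a - b) = 0 by
        rw [show res P inf_le_left (a - b) = res P inf_le_left a - res P inf_le_left b from map_sub _ _ _, hab,
          sub_self]]
      exact map_zero _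
    choose k hk using hz
    refine eq_zero_of_flat g e hinjG (Finset.univ.sup k) _ fun i => ?_
    rw [← Nat.sub_add_cancel (Finset.le_sup (Finset.mem_univ i) : k i ≤ Finset.univ.sup k), pow_add, mul_smul,
      hk, smul_zero]
  · intro s
    have hfr : ∀ i, ∃ (k : ℕ) (a : Γ(P, W)), res P (X'.basicOpen_le _) a =
        X'.presheaf.map (homOfLE (X'.basicOpen_le _)).op (algebraMap Γ(X, V) Γ(X', W) (g i) ^ k) •
          res P (hDle i) s := fun i =>
      exists_smul_eq_map P hW (algebraMap Γ(X, V) Γ(X', W) (g i)) (res P (hDle i) s)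
    choose k a ha using hfr
    let K := Finset.univ.sup k
    let φ : Fin t.card → Γ(X', W) := fun i => algebraMap Γ(X, V) Γ(X', W) (g i)
    obtain ⟨a', ha'⟩ : ∃ a' : Fin t.card → Γ(P, W), ∀ (i : Fin t.card) (y : X') (hy : y ∈ X'.basicOpen (φ i)),
        P.presheaf.germ W y (X'.basicOpen_le _ hy) (a' i) =
          X'.presheaf.germ W y (X'.basicOpen_le _ hy) (φ i ^ K) •
            P.presheaf.germ (W ⊓ f ⁻¹ᵁ U) y (hDle i hy) s := by
      refine ⟨fun i => φ i ^ (K - k i) • a i, fun i y hy => ?_⟩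
      show P.presheaf.germ W y (X'.basicOpen_le _ hy) (φ i ^ (K - k i) • a i) = _
      have e1 := congr(P.presheaf.germ (X'.basicOpen (φ i)) y hy $(ha i))
      rw [germ_smul', germ_res, TopCat.Presheaf.germ_res_apply, germ_res] at e1
      rw [germ_smul', e1, smul_smul, ← map_mul, ← pow_add,
        Nat.sub_add_cancel (Finset.le_sup (Finset.mem_univ i) : k i ≤ K)]
    have hL : ∀ p : Fin t.card × Fin t.card, ∃ l, (φ p.1 * φ p.2) ^ l • (φ p.2 ^ K • a' p.1 - φ p.1 ^ K • a' p.2) = 0 := by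
      intro p
      refine exists_pow_smul_eq_zero P hW _ _ (eq_of_germ P (W := X'.basicOpen (φ p.1 * φ p.2)) _ 0 fun y hy => ?_)
      have hy12 : y ∈ X'.basicOpen (φ p.1) ∧ y ∈ X'.basicOpen (φ p.2) := by
        rw [← Opens.mem_inf, ← Scheme.basicOpen_mul]; exact hy
      rw [germ_res, map_zero, map_sub, germ_smul', germ_smul', ha' p.1 y hy12.1, ha' p.2 y hy12.2, smul_comm, sub_self]
    choose l hl using hL
    let L := Finset.univ.sup l
    obtain ⟨x₀, hx₀⟩ := exists_of_flat g e hexG (K + L) (fun i => φ i ^ L • a' i) fun i j => by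
      have h := hl (i, j)
      have h2 : (φ i * φ j) ^ L • (φ j ^ K • a' i - φ i ^ K • a' j) = 0 := by
        show (φ i * φ j) ^ Finset.univ.sup l • _ = 0
        rw [← Nat.sub_add_cancel (Finset.le_sup (f := l) (Finset.mem_univ (i, j))), pow_add, mul_smul, h,
          smul_zero]
      rw [smul_sub, sub_eq_zero, smul_smul, smul_smul] at h2
      show φ j ^ (K + L) • φ i ^ L • a' i = φ i ^ (K + L) • φ j ^ L • a' j
      rw [smul_smul, smul_smul]
      convert h2 using 2 <;> ring
    refine ⟨x₀, eq_of_germ P _ _ fun y hy => ?_⟩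
    obtain ⟨i, hi⟩ := hcov' y hy
    rw [germ_res]
    refine (((Scheme.mem_basicOpen _ _ _ hy.1).1 hi).pow (K + L)).smul_left_cancel.1 ?_
    rw [← map_pow, ← germ_smul', hx₀ i, germ_smul', ha' i y hi, smul_smul, ← map_mul, ← pow_add, add_comm L K]

variable [IsLocallyNoetherian X] [IsLocallyNoetherian X'] {Z : Set X}

/-- Flat pullbacks of quasi-coherent closed modules are closed. -/
theorem closed_pullback (hZ : StableUnderSpecialization Z) (G : X.Modules) (hG : Coh.IsQCoh G)
    (hc : ∀ x, PureAt Z G x ∧ ExtAt Z G x) (x' : X') :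
    PureAt (f.base ⁻¹' Z) ((Scheme.Modules.pullback f).obj G) x' ∧
      ExtAt (f.base ⁻¹' Z) ((Scheme.Modules.pullback f).obj G) x' := by
  set P := (Scheme.Modules.pullback f).obj G
  have key : ∀ (W : X'.Opens) (_ : x' ∈ W) (C : Set X'), IsClosed C →
      (∃ (N : X'.Opens), IsAffineOpen N ∧ x' ∈ N ∧ N ≤ W ∧ (C ∩ (N : Set X') ⊆ f.base ⁻¹' Z →
        ∃ U' : X'.Opens, U' ≤ N ∧ (∀ y ∈ N, y ∈ U' → y ∉ C) ∧ (∀ y ∈ N, y ∉ f.base ⁻¹' Z → y ∈ U') ∧
          Function.Bijective (res P (inf_le_left : N ⊓ U' ≤ N)))) := by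
    intro W hxW C hC
    obtain ⟨V, hV, hxV, -⟩ := exists_isAffineOpen_mem_and_subset (x := f x') (U := (⊤ : X.Opens)) trivial
    obtain ⟨N, hN, hxN, hNW⟩ := exists_isAffineOpen_mem_and_subset (x := x') (U := W ⊓ f ⁻¹ᵁ V) ⟨hxW, hxV⟩
    replace hNW : N ≤ W ⊓ f ⁻¹ᵁ V := hNW
    refine ⟨N, hN, hxN, hNW.trans inf_le_left, fun hsub => ?_⟩
    have hc' : IsCompact (C ∩ (N : Set X')) := hN.isCompact.inter_left hC
    -- the closure of the image
    let D : Set X := f.base '' (C ∩ (N : Set X'))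
    have hDV : D ⊆ (V : Set X) := by rintro _ ⟨y, hy, rfl⟩; exact (hNW hy.2).2
    obtain ⟨S, hSf, hScl, hSirr, hSU⟩ : ∃ S : Set (Set (N : Set X')), S.Finite ∧ (∀ t ∈ S, IsClosed t) ∧
        (∀ t ∈ S, IsIrreducible t) ∧ Subtype.val ⁻¹' C = ⋃₀ S := by
      haveI := noetherianSpace_of_isCompact hN.isCompact
      exact NoetherianSpace.exists_finite_set_isClosed_irreducible
        (α := (N : Set X')) (s := Subtype.val ⁻¹' C) (hC.preimage continuous_subtype_val)
    haveI : QuasiSober (N : Set X') := N.2.isOpenEmbedding_subtypeVal.quasiSober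
    haveI := hSf.to_subtype
    let q : S → X := fun t => f ((hSirr t.1 t.2).genericPoint).1
    let Tset : Set X := ⋃ t : S, closure {q t}
    have hqZ : ∀ t : S, q t ∈ Z := fun t => hsub ⟨by
      have : (hSirr t.1 t.2).genericPoint ∈ t.1 :=
        ((hSirr t.1 t.2).isGenericPoint_genericPoint (hScl t.1 t.2)).mem
      exact (hSU.symm ▸ Set.mem_sUnion.2 ⟨t.1, t.2, this⟩ : _ ∈ Subtype.val ⁻¹' C),
      ((hSirr t.1 t.2).genericPoint).2⟩
    have hTcl : IsClosed Tset := isClosed_iUnion_of_finite fun _ => isClosed_closure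
    have hTZ : Tset ⊆ Z := fun z hz => by
      obtain ⟨t, ht⟩ := Set.mem_iUnion.1 hz
      exact hZ (specializes_iff_mem_closure.2 ht) (hqZ t)
    let U : X.Opens := V ⊓ ⟨Tsetᶜ, hTcl.isOpen_compl⟩
    refine ⟨N ⊓ f ⁻¹ᵁ U, inf_le_left, fun y hy hyU hyC => hyU.2.2 ?_,
      fun y hy hyZ => ⟨hy, (hNW hy).2, fun hc => hyZ (hTZ hc)⟩, ?_⟩
    · obtain ⟨t, ht, hyt⟩ := Set.mem_sUnion.1 ((Set.ext_iff.1 hSU ⟨y, hy⟩).1 hyC)
      refine Set.mem_iUnion.2 ⟨⟨t, ht⟩, specializes_iff_mem_closure.1 ?_⟩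
      exact (((hSirr t ht).isGenericPoint_genericPoint (hScl t ht)).specializes hyt).map
        (f.continuous.comp continuous_subtype_val)
    · have hbij : Function.Bijective (res G (inf_le_left : U ≤ V)) := by
        have hoff : ∀ y ∈ V, y ∉ U → y ∈ Z := fun y hy hy' => by
          by_contra hyZ
          exact hy' ⟨hy, fun h => hyZ (hTZ h)⟩
        exact ⟨injective_res_of_pure inf_le_left (fun x _ => (hc x).1) hoff,
          surjective_res_of_closed inf_le_left (fun x _ => hc x) hoff⟩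
      have h := bijective_res_pullback f G hG hV hN (hNW.trans inf_le_right) (inf_le_left : U ≤ V)
        (isCompact_of_le hV.isCompact U inf_le_left) hbij
      have e : N ⊓ (N ⊓ f ⁻¹ᵁ U) = N ⊓ f ⁻¹ᵁ U := inf_eq_right.2 inf_le_left
      have hres : ∀ z, res P (e.le) (res P (inf_le_left : N ⊓ f ⁻¹ᵁ U ≤ N) z) =
          res P (inf_le_left : N ⊓ (N ⊓ f ⁻¹ᵁ U) ≤ N) z := fun z => res_res P _ _ z
      have hres' : Function.Bijective (res P e.le) := by
        refine Function.bijective_iff_has_inverse.2 ⟨res P e.ge, fun z => ?_, fun z => ?_⟩ <;>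
          refine eq_of_germ P _ _ fun y hy => ?_ <;> rw [germ_res, germ_res]
      rw [show res P (inf_le_left : N ⊓ (N ⊓ f ⁻¹ᵁ U) ≤ N) =
        res P e.le ∘ res P (inf_le_left : N ⊓ f ⁻¹ᵁ U ≤ N) from funext fun z => (hres z).symm]
      exact hres'.comp h
  refine ⟨fun W s hx hs => ?_, fun W W' s hxW hW hoff => ?_⟩
  · let C : Set X' := {y | ∀ (N : X'.Opens) (h : N ≤ W), y ∈ N → res P h s ≠ 0}
    have hC : IsClosed C := by
      rw [← isOpen_compl_iff, isOpen_iff_forall_mem_open]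
      intro y hy
      simp only [C, Set.mem_compl_iff, Set.mem_setOf_eq, not_forall, not_not] at hy
      obtain ⟨N, h, hyN, e⟩ := hy
      exact ⟨N, fun z hz hzC => hzC N h hz e, N.2, hyN⟩
    obtain ⟨N, hN, hxN, hNW, hU⟩ := key W hx C hC
    obtain ⟨U', hU'N, hUC, -, hbij⟩ := hU fun y hy => by
      by_contra hyZ
      have e : P.presheaf.germ W y (hNW hy.2) s = P.presheaf.germ W y (hNW hy.2) 0 := by
        rw [map_zero]; exact hs y (hNW hy.2) hyZ
      obtain ⟨M, hyM, i, i', e'⟩ := P.presheaf.germ_eq y _ _ _ _ e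
      exact hy.1 M (leOfHom i) hyM (e'.trans (map_zero _))
    have hz : res P hNW s = 0 := hbij.1 (eq_of_germ P _ _ fun y hy => by
      rw [germ_res, germ_res, germ_res, map_zero]
      have hyC := hUC y hy.1 hy.2
      simp only [C, Set.mem_setOf_eq, not_forall, not_not] at hyC
      obtain ⟨M, h, hyM, e⟩ := hyC
      rw [← germ_res P h s y hyM, e, map_zero])
    rw [← germ_res P hNW s x' hxN, hz, map_zero]
  · obtain ⟨N, hN, hxN, hNW, hU⟩ := key W hxW (W' : Set X')ᶜ W'.2.isClosed_compl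
    obtain ⟨U', hU'N, hUC, hUZ, hbij⟩ := hU fun y hy => hoff y (hNW hy.2) hy.1
    obtain ⟨g, hg⟩ := hbij.2 (res P (fun y hy => not_not.1 (hUC y hy.1 hy.2) : N ⊓ U' ≤ W') s)
    refine ⟨N, g, hxN, fun y hyN hy hyZ => ?_⟩
    rw [← germ_res P (inf_le_left : N ⊓ U' ≤ N) g y ⟨hyN, hUZ y hyN hyZ⟩, hg, germ_res]

/-- The closure commutes with flat pullback. -/
theorem nonempty_pullback_H0_iso (hZ : StableUnderSpecialization Z) (F : X.Modules) (hF : Coh.IsQCoh F) :
    Nonempty ((Scheme.Modules.pullback f).obj ((ZClos.H0 Z).obj F) ≅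
      (ZClos.H0 (f.base ⁻¹' Z)).obj ((Scheme.Modules.pullback f).obj F)) := by
  have hZ' : StableUnderSpecialization (f.base ⁻¹' Z) := hZ.preimage f.continuous
  have hH : ∀ x, PureAt Z ((ZClos.H0 Z).obj F) x ∧ ExtAt Z ((ZClos.H0 Z).obj F) x := fun x => by
    refine ⟨fun W s hx hs => by rw [H0_pure hZ F s hs, map_zero], fun W W' σ hxW hW hoff => ?_⟩
    obtain ⟨V, hV, hxV, hVW⟩ := exists_isAffineOpen_mem_and_subset (x := x) (U := W) hxW
    replace hVW : V ≤ W := hVW
    obtain ⟨W₁, hW₁, s, hoff₁, hs⟩ := exists_rep' F (isCompact_of_le hV.isCompact _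
      (inf_le_left : V ⊓ W' ≤ V)) (res _ (inf_le_right : V ⊓ W' ≤ W') σ)
    obtain ⟨τ, hτ⟩ := exists_ext hZ F hV.isCompact W₁ (fun y hy hy' => by
      by_cases hyW : y ∈ W'
      · exact hoff₁ y ⟨hy, hyW⟩ hy'
      · exact hoff y (hVW hy) hyW) s
    refine ⟨V, τ, hxV, fun y hyV hy hyZ => ?_⟩
    have hy₁ : y ∈ W₁ := by
      by_contra hc
      exact hyZ (hoff₁ y ⟨hyV, hy⟩ hc)
    rw [hτ y hyV hy₁ hyZ, ← hs y hy₁, germ_res]
  have hcl := closed_pullback f hZ _ (isQCoh_H0 Z F hF) hH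
  let F' := (Scheme.Modules.pullback f).obj F
  let u : F' ⟶ (Scheme.Modules.pullback f).obj ((ZClos.H0 Z).obj F) :=
    (Scheme.Modules.pullback f).map (ZClos.rhoApp Z F)
  haveI : IsIso (ZClos.rhoApp (f.base ⁻¹' Z) ((Scheme.Modules.pullback f).obj ((ZClos.H0 Z).obj F))) :=
    (isZClosed_iff hZ' _).2 hcl
  let v := (ZClos.H0 (f.base ⁻¹' Z)).map u ≫
    inv (ZClos.rhoApp (f.base ⁻¹' Z) ((Scheme.Modules.pullback f).obj ((ZClos.H0 Z).obj F)))
  have hv : ZClos.rhoApp (f.base ⁻¹' Z) F' ≫ v = u := by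
    have h : ZClos.rhoApp (f.base ⁻¹' Z) F' ≫ (ZClos.H0 (f.base ⁻¹' Z)).map u =
        u ≫ ZClos.rhoApp (f.base ⁻¹' Z) ((Scheme.Modules.pullback f).obj ((ZClos.H0 Z).obj F)) :=
      ((ZClos.rho (f.base ⁻¹' Z)).naturality u).symm
    show ZClos.rhoApp (f.base ⁻¹' Z) F' ≫ (ZClos.H0 (f.base ⁻¹' Z)).map u ≫ _ = u
    rw [← Category.assoc, h, Category.assoc, IsIso.hom_inv_id, Category.comp_id]
  have hH' : ∀ x, ExtAt (f.base ⁻¹' Z) ((ZClos.H0 (f.base ⁻¹' Z)).obj F') x := fun x W W' σ hxW hW hoff => by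
    obtain ⟨V, hV, hxV, hVW⟩ := exists_isAffineOpen_mem_and_subset (x := x) (U := W) hxW
    replace hVW : V ≤ W := hVW
    obtain ⟨W₁, hW₁, s, hoff₁, hs⟩ := exists_rep' F' (isCompact_of_le hV.isCompact _
      (inf_le_left : V ⊓ W' ≤ V)) (res _ (inf_le_right : V ⊓ W' ≤ W') σ)
    obtain ⟨τ, hτ⟩ := exists_ext hZ' F' hV.isCompact W₁ (fun y hy hy' => by
      by_cases hyW : y ∈ W'
      · exact hoff₁ y ⟨hy, hyW⟩ hy'
      · exact hoff y (hVW hy) hyW) s
    refine ⟨V, τ, hxV, fun y hyV hy hyZ => ?_⟩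
    have hy₁ : y ∈ W₁ := by
      by_contra hc
      exact hyZ (hoff₁ y ⟨hyV, hy⟩ hc)
    rw [hτ y hyV hy₁ hyZ, ← hs y hy₁, germ_res]
  haveI : IsIso v := by
    refine isIso_of_bijective_off hZ' hcl v (fun y hy => ?_) hH'
    have hu : Function.Bijective (stalkMap u y) := by
      haveI : IsIso ((DerSch.stalkFunctor X (f.base y)).map (ZClos.rhoApp Z F)) :=
        (ConcreteCategory.isIso_iff_bijective _).2 (bijective_rhoStalk F (y := f.base y) hy)
      have hnat := (ModStalk.pullbackStalkIso f y).hom.naturality (ZClos.rhoApp Z F)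
      haveI : IsIso ((DerSch.stalkFunctor X' y).map u) := by
        have : (DerSch.stalkFunctor X' y).map u =
            (ModStalk.pullbackStalkIso f y).hom.app F ≫
              ((ModuleCat.extendScalars (f.stalkMap y).hom).map
                ((DerSch.stalkFunctor X (f.base y)).map (ZClos.rhoApp Z F))) ≫
              (ModStalk.pullbackStalkIso f y).inv.app ((ZClos.H0 Z).obj F) := by
          erw [← reassoc_of% hnat, Iso.hom_inv_id_app, Category.comp_id]
        rw [this]
        infer_instance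
      exact (ConcreteCategory.isIso_iff_bijective ((DerSch.stalkFunctor X' y).map u)).1 inferInstance
    refine ((bijective_rhoStalk (Z := f.base ⁻¹' Z) F' hy).of_comp_iff _).1 ?_
    convert hu using 1
    funext z
    rw [← hv]
    exact (stalkMap_comp_apply (ZClos.rhoApp (f.base ⁻¹' Z) F') v y z).symm
  exact ⟨(asIso v).symm⟩

end Groth.Agent.ZClosLib
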