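import Groth.Agent.ZClosLib.HSec
import Groth.Agent.ZClosLib.Depth
import Groth.Agent.ZClosLib.DepthApps

/-!
# Sections of `H⁰` over affine opens as germ families
-/

set_option autoImplicit false

universe u

open CategoryTheory CategoryTheory.Limits AlgebraicGeometry TopologicalSpace Opposite
open Groth.Agent.QCohLoc Groth.Agent.AssSch12
open Groth.Agent.CommAlg6.PushCompl
open Groth.Agent.Pure6 (IsLocFrac)

namespace Groth.Agent.ZClosLib

/-- An algebraic chart: the sections of `F` over an affine open. -/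
structure Chart {X : Scheme.{u}} (F : X.Modules) (W : X.Opens) (A : Type u) [CommRing A]
    (M : Type u) [AddCommGroup M] [Module A M] where
  hW : IsAffineOpen W
  ι : A →+* Γ(X, W)
  hι : Function.Bijective ι
  μ : M →+ Γ(F, W)
  hμ : Function.Bijective μ
  smul : ∀ (a : A) (m : M), μ (a • m) = ι a • μ m

namespace Chart

variable {X : Scheme.{u}} {F : X.Modules} [F.IsQuasicoherent] {W : X.Opens} {A : Type u} [CommRing A]
  {M : Type u} [AddCommGroup M] [Module A M] (c : Chart F W A M) {y : X} (hy : y ∈ W)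

/-- The prime of a point. -/
noncomputable def P : PrimeSpectrum A :=
  ⟨(primeAt c.hW hy).comap c.ι, Ideal.IsPrime.comap (hK := (c.hW.primeIdealOf ⟨y, hy⟩).2) c.ι⟩

omit [F.IsQuasicoherent] in
theorem notMem_P_iff (a : A) : a ∉ (c.P hy).asIdeal ↔ y ∈ X.basicOpen (c.ι a) :=
  notMem_primeAt_iff c.hW hy (c.ι a)

omit [F.IsQuasicoherent] in
theorem exists_P (q : PrimeSpectrum A) : ∃ (y : X) (hy : y ∈ W), c.P hy = q := by
  let e := RingEquiv.ofBijective c.ι c.hι
  haveI : (q.asIdeal.comap e.symm.toRingHom).IsPrime := Ideal.IsPrime.comap _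
  obtain ⟨y, hy, h⟩ := exists_point c.hW (q.asIdeal.comap e.symm.toRingHom)
  refine ⟨y, hy, PrimeSpectrum.ext (Ideal.ext fun a => ?_)⟩
  show c.ι a ∈ primeAt c.hW hy ↔ _
  rw [h, Ideal.mem_comap]
  show e.symm (e a) ∈ _ ↔ _
  rw [e.symm_apply_apply]

omit [F.IsQuasicoherent] in
theorem isUnit_germ {s : A} (hs : s ∉ (c.P hy).asIdeal) : IsUnit (X.presheaf.germ W y hy (c.ι s)) :=
  (Scheme.mem_basicOpen _ _ _ hy).1 ((c.notMem_P_iff hy s).1 hs)

omit [F.IsQuasicoherent] in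
theorem germ_μ_smul (a : A) (m : M) :
    F.presheaf.germ W y hy (c.μ (a • m)) = X.presheaf.germ W y hy (c.ι a) • F.presheaf.germ W y hy (c.μ m) := by
  rw [c.smul, germ_smul']

/-- A fraction as a germ. -/
noncomputable def frac (m : M) (s : (c.P hy).asIdeal.primeCompl) : F.presheaf.stalk y :=
  (↑(c.isUnit_germ hy s.2).unit⁻¹ : X.presheaf.stalk y) • F.presheaf.germ W y hy (c.μ m)

omit [F.IsQuasicoherent] in
theorem smul_frac (m : M) (s : (c.P hy).asIdeal.primeCompl) :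
    X.presheaf.germ W y hy (c.ι s) • c.frac hy m s = F.presheaf.germ W y hy (c.μ m) := by
  rw [frac, smul_smul, IsUnit.mul_val_inv, one_smul]

/-- The identification of the localization with the stalk. -/
noncomputable def loc (ξ : LocalizedModule (c.P hy).asIdeal.primeCompl M) : F.presheaf.stalk y :=
  LocalizedModule.liftOn ξ (fun ms => c.frac hy ms.1 ms.2) fun a b h => by
    obtain ⟨v, hv⟩ := h
    refine (c.isUnit_germ hy (v * a.2 * b.2).2).smul_left_cancel.1 ?_
    have e := congrArg (fun m => F.presheaf.germ W y hy (c.μ m)) hv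
    simp only [Submonoid.smul_def, germ_μ_smul, ← c.smul_frac hy a.1 a.2, ← c.smul_frac hy b.1 b.2, smul_smul, map_mul] at e
    rw [Submonoid.coe_mul, Submonoid.coe_mul, map_mul, map_mul, map_mul, map_mul]
    refine Eq.trans ?_ (e.trans ?_) <;> congr 1 <;> ring

omit [F.IsQuasicoherent] in
theorem loc_mk (m : M) (s : (c.P hy).asIdeal.primeCompl) :
    c.loc hy (LocalizedModule.mk m s) = c.frac hy m s := by
  rw [loc, LocalizedModule.liftOn_mk]

omit [F.IsQuasicoherent] in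
theorem smul_loc (m : M) (s : A) (hs : s ∉ (c.P hy).asIdeal) :
    X.presheaf.germ W y hy (c.ι s) • c.loc hy (LocalizedModule.mk m ⟨s, hs⟩) =
      F.presheaf.germ W y hy (c.μ m) := by
  rw [loc_mk]; exact c.smul_frac hy m ⟨s, hs⟩

omit [F.IsQuasicoherent] in
theorem loc_add (ξ η : LocalizedModule (c.P hy).asIdeal.primeCompl M) :
    c.loc hy (ξ + η) = c.loc hy ξ + c.loc hy η := by
  induction ξ using LocalizedModule.induction_on with
  | h m s =>
    induction η using LocalizedModule.induction_on with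
    | h n t =>
      refine (c.isUnit_germ hy (s * t).2).smul_left_cancel.1 ?_
      rw [LocalizedModule.mk_add_mk, smul_loc c hy _ _ (s * t).2, smul_add, Submonoid.coe_mul, map_mul, map_mul]
      conv_rhs => rw [mul_smul, smul_comm, c.smul_loc hy m s s.2, mul_smul, c.smul_loc hy n t t.2]
      rw [map_add, map_add, Submonoid.smul_def, Submonoid.smul_def, germ_μ_smul, germ_μ_smul]

omit [F.IsQuasicoherent] in
theorem loc_smul (a : A) (ξ : LocalizedModule (c.P hy).asIdeal.primeCompl M) :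
    c.loc hy (a • ξ) = X.presheaf.germ W y hy (c.ι a) • c.loc hy ξ := by
  induction ξ using LocalizedModule.induction_on with
  | h m s =>
    refine (c.isUnit_germ hy s.2).smul_left_cancel.1 ?_
    rw [LocalizedModule.smul'_mk, c.smul_loc hy _ _ s.2, smul_comm, c.smul_loc hy _ _ s.2, germ_μ_smul]

omit [F.IsQuasicoherent] in
theorem loc_zero : c.loc hy 0 = 0 := by
  have h := c.loc_add hy 0 0
  rw [add_zero] at h
  exact left_eq_add.1 h

theorem loc_injective : Function.Injective (c.loc hy) := by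
  have h0 : ∀ ξ, c.loc hy ξ = 0 → ξ = 0 := fun ξ => by
    induction ξ using LocalizedModule.induction_on with
    | h m s =>
      intro h
      have e := c.smul_loc hy m s s.2
      rw [h, smul_zero] at e
      obtain ⟨f, hf, hfm⟩ := exists_smul_eq_zero_of_germ F c.hW hy (c.μ m) e.symm
      obtain ⟨g, rfl⟩ := c.hι.2 f
      rw [← LocalizedModule.zero_mk s, LocalizedModule.mk_eq]
      refine ⟨⟨g, (c.notMem_P_iff hy g).2 hf⟩, ?_⟩
      have : g • m = 0 := c.hμ.1 (by rw [c.smul, hfm, map_zero])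
      simp only [smul_zero, Submonoid.smul_def]
      rw [smul_comm, this, smul_zero]
  intro ξ η h
  refine sub_eq_zero.1 (h0 _ ?_)
  have := c.loc_add hy (ξ - η) η
  rw [sub_add_cancel, h] at this
  exact right_eq_add.1 this

section sections

variable {J : Ideal A}

/-- The open where the ideal is the unit ideal. -/
noncomputable def openOf (J : Ideal A) : X.Opens := ⨆ a : J, X.basicOpen (c.ι a.1)

omit [F.IsQuasicoherent] in
theorem openOf_le : c.openOf J ≤ W := iSup_le fun a => X.basicOpen_le _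

omit [F.IsQuasicoherent] in
theorem mem_openOf_iff (hy : y ∈ W) : y ∈ c.openOf J ↔ ¬ J ≤ (c.P hy).asIdeal := by
  rw [openOf, Opens.mem_iSup, SetLike.not_le_iff_exists]
  exact ⟨fun ⟨a, ha⟩ => ⟨a.1, a.2, (c.notMem_P_iff hy a.1).2 ha⟩,
    fun ⟨a, ha, ha'⟩ => ⟨⟨a, ha⟩, (c.notMem_P_iff hy a).1 ha'⟩⟩

/-- Germ families glue to sections. -/
theorem exists_sec (σ : Secs J M) :
    ∃ s : Γ(F, c.openOf J), ∀ (y : X) (h : y ∈ c.openOf J),
      F.presheaf.germ (c.openOf J) y h s =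
        c.loc (c.openOf_le h) (σ.1 ⟨c.P (c.openOf_le h), (c.mem_openOf_iff (c.openOf_le h)).1 h⟩) := by
  classical
  let ι' : Type u := {e : M × A // e.2 ∈ J ∧ ∀ (q : PrimeSpectrum A) (hq : ¬ J ≤ q.asIdeal) (h : e.2 ∉ q.asIdeal),
    σ.1 ⟨q, hq⟩ = LocalizedModule.mk e.1 ⟨e.2, h⟩}
  have hle : ∀ e : ι', X.basicOpen (c.ι e.1.2) ≤ c.openOf J := fun e =>
    le_iSup (fun a : J => X.basicOpen (c.ι a.1)) ⟨e.1.2, e.2.1⟩
  have hloc : ∀ e : ι', ∃ t : Γ(F, X.basicOpen (c.ι e.1.2)), ∀ (y : X) (h : y ∈ X.basicOpen (c.ι e.1.2)),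
      F.presheaf.germ _ y h t = c.loc (c.openOf_le (hle e h))
        (σ.1 ⟨c.P (c.openOf_le (hle e h)), (c.mem_openOf_iff (c.openOf_le (hle e h))).1 (hle e h)⟩) := by
    intro e
    have hu : IsUnit (M := Γ(X, X.basicOpen (c.ι e.1.2)))
        (X.presheaf.map (homOfLE (X.basicOpen_le (c.ι e.1.2))).op (c.ι e.1.2)) :=
      RingedSpace.isUnit_res_basicOpen X.toRingedSpace (c.ι e.1.2)
    refine ⟨(↑hu.unit⁻¹ : Γ(X, X.basicOpen (c.ι e.1.2))) • res F (X.basicOpen_le _) (c.μ e.1.1), fun y h => ?_⟩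
    have hy : y ∈ W := X.basicOpen_le _ h
    have hs := (c.notMem_P_iff hy e.1.2).2 h
    rw [e.2.2 _ _ hs]
    refine (c.isUnit_germ hy hs).smul_left_cancel.1 ?_
    rw [c.smul_loc hy _ _ hs, germ_smul', smul_smul, germ_res,
      ← TopCat.Presheaf.germ_res_apply X.presheaf (homOfLE (X.basicOpen_le (c.ι e.1.2))) y h, ← map_mul,
      IsUnit.mul_val_inv, map_one, one_smul]
  choose t ht using hloc
  have hcov : c.openOf J ≤ ⨆ e : ι', X.basicOpen (c.ι e.1.2) := fun y h => by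
    have hy : y ∈ W := c.openOf_le h
    obtain ⟨r, s, hsJ, hs, hr⟩ := σ.2 (c.P hy) ((c.mem_openOf_iff hy).1 h)
    exact Opens.mem_iSup.2 ⟨⟨(r, s), hsJ, fun q hq h' => hr q hq h'⟩, (c.notMem_P_iff hy s).1 hs⟩
  obtain ⟨s, hs, -⟩ := TopCat.Sheaf.existsUnique_gluing' ⟨F.presheaf, F.isSheaf⟩
    (fun e : ι' => X.basicOpen (c.ι e.1.2)) (c.openOf J) (fun e => homOfLE (hle e)) hcov t fun e e' => by
      refine eq_of_germ F (W := X.basicOpen (c.ι e.1.2) ⊓ X.basicOpen (c.ι e'.1.2)) _ _ fun y h => ?_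
      erw [germ_res, germ_res, ht e y h.1, ht e' y h.2]
  refine ⟨s, fun y h => ?_⟩
  obtain ⟨e, he⟩ := Opens.mem_iSup.1 (hcov h)
  rw [← germ_res F (hle e) s y he, show res F (hle e) s = t e from hs e, ht e y he]

/-- The glued section. -/
noncomputable def sec (σ : Secs J M) : Γ(F, c.openOf J) := (c.exists_sec σ).choose

theorem germ_sec (σ : Secs J M) (y : X) (h : y ∈ c.openOf J) :
    F.presheaf.germ (c.openOf J) y h (c.sec σ) =
      c.loc (c.openOf_le h) (σ.1 ⟨c.P (c.openOf_le h), (c.mem_openOf_iff (c.openOf_le h)).1 h⟩) :=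
  (c.exists_sec σ).choose_spec y h

theorem sec_injective : Function.Injective (c.sec (J := J)) := by
  intro σ τ hστ
  refine Subtype.ext (funext fun x => ?_)
  obtain ⟨⟨q, hq⟩, rfl⟩ : ∃ x' : {p : PrimeSpectrum A // ¬ J ≤ p.asIdeal}, x' = x := ⟨x, rfl⟩
  obtain ⟨y, hy, rfl⟩ := c.exists_P q
  have h : y ∈ c.openOf J := (c.mem_openOf_iff hy).2 hq
  refine c.loc_injective hy ?_
  rw [← c.germ_sec σ y h, hστ, c.germ_sec τ y h]

/-- Sections are germ families. -/
theorem exists_fam (W' : X.Opens) (hW'J : ∀ a ∈ J, X.basicOpen (c.ι a) ≤ W') (s : Γ(F, W')) :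
    ∃ σ : Secs J M, ∀ (y : X) (hy : y ∈ W) (hq : ¬ J ≤ (c.P hy).asIdeal) (hy' : y ∈ W'),
      c.loc hy (σ.1 ⟨c.P hy, hq⟩) = F.presheaf.germ W' y hy' s := by
  have hfrac : ∀ a : J, ∃ (r : M) (b : A), b ∈ J ∧ (∀ q : PrimeSpectrum A, a.1 ∉ q.asIdeal → b ∉ q.asIdeal) ∧
      ∀ (y : X) (hy : y ∈ W) (hb : b ∉ (c.P hy).asIdeal) (hy' : y ∈ W'),
        c.loc hy (LocalizedModule.mk r ⟨b, hb⟩) = F.presheaf.germ W' y hy' s := by
    intro a
    obtain ⟨n, t, ht⟩ := exists_smul_eq_map F c.hW (c.ι a.1) (res F (hW'J a.1 a.2) s)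
    obtain ⟨r, hr⟩ := c.hμ.2 (c.ι a.1 • t)
    refine ⟨r, a.1 ^ (n + 1), J.pow_mem_of_mem a.2 _ (Nat.succ_pos n),
      fun q hq h => hq (q.2.mem_of_pow_mem _ h), fun y hy hb hy' => ?_⟩
    have hya : y ∈ X.basicOpen (c.ι a.1) :=
      (c.notMem_P_iff hy a.1).1 fun h => hb (Ideal.pow_mem_of_mem _ h _ (Nat.succ_pos n))
    refine (c.isUnit_germ hy hb).smul_left_cancel.1 ?_
    have e := congr(F.presheaf.germ (X.basicOpen (c.ι a.1)) y hya $ht)
    rw [germ_smul', TopCat.Presheaf.germ_res_apply, TopCat.Presheaf.germ_res_apply, germ_res] at e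
    rw [c.smul_loc hy _ _ hb, hr, germ_smul', e, smul_smul, ← map_mul, ← pow_succ']
    simp only [map_pow]
  choose r b hbJ hb hrb using hfrac
  have hex : ∀ x : {p : PrimeSpectrum A // ¬ J ≤ p.asIdeal}, ∃ a : J, a.1 ∉ x.1.asIdeal := fun x => by
    obtain ⟨a, ha, ha'⟩ := SetLike.not_le_iff_exists.1 x.2
    exact ⟨⟨a, ha⟩, ha'⟩
  choose a ha using hex
  have hmem : ∀ {y : X} (hy : y ∈ W), ¬ J ≤ (c.P hy).asIdeal → y ∈ W' := fun {y} hy hq => by
    obtain ⟨a, ha, ha'⟩ := SetLike.not_le_iff_exists.1 hq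
    exact hW'J a ha ((c.notMem_P_iff hy a).1 ha')
  refine ⟨⟨fun x => LocalizedModule.mk (r (a x)) ⟨b (a x), hb _ _ (ha x)⟩, fun p hp => ?_⟩, fun y hy hq hy' => ?_⟩
  · refine ⟨r (a ⟨p, hp⟩), b (a ⟨p, hp⟩), hbJ _, hb _ _ (ha ⟨p, hp⟩), fun q hq hs => ?_⟩
    obtain ⟨y, hy, rfl⟩ := c.exists_P q
    exact c.loc_injective hy ((hrb _ y hy _ (hmem hy hq)).trans (hrb _ y hy _ (hmem hy hq)).symm)
  · exact hrb _ y hy _ hy'

end sections

section closure

variable [IsLocallyNoetherian X] {Z : Set X} (hZ : StableUnderSpecialization Z) (ZA : Set (PrimeSpectrum A))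
  (hZA : ∀ (y : X) (hy : y ∈ W), c.P hy ∈ ZA ↔ y ∈ Z)
include hZ hZA

theorem exists_ψ (g : HSec ZA M) :
    ∃ τ : Γ((ZClos.H0 Z).obj F, W), ∀ (y : X) (hy : y ∈ W) (hyZ : y ∉ Z),
      ((ZClos.H0 Z).obj F).presheaf.germ W y hy τ =
        ZClos.rhoStalk Z F y (c.loc hy (g.1 ⟨c.P hy, fun h => hyZ ((hZA y hy).1 h)⟩)) := by
  obtain ⟨J, hJ, σ, hσ⟩ := g.2
  have hoff : ∀ y ∈ W, y ∉ c.openOf J → y ∈ Z := fun y hy hy' =>
    (hZA y hy).1 (hJ (not_not.1 fun h => hy' ((c.mem_openOf_iff hy).2 h)))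
  obtain ⟨τ, hτ⟩ := exists_ext hZ F c.hW.isCompact (c.openOf J) hoff (c.sec σ)
  refine ⟨τ, fun y hy hyZ => ?_⟩
  have hy' : y ∈ c.openOf J := by
    by_contra hc
    exact hyZ (hoff y hy hc)
  rw [hτ y hy hy' hyZ, c.germ_sec σ y hy', hσ]

/-- From germ families to sections of the closure. -/
noncomputable def psi : HSec ZA M →ₛₗ[c.ι] Γ((ZClos.H0 Z).obj F, W) where
  toFun g := (c.exists_ψ hZ ZA hZA g).choose
  map_add' g g' := by
    refine sub_eq_zero.1 (H0_pure hZ F _ fun y hy hyZ => ?_)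
    rw [map_sub, map_add, (c.exists_ψ hZ ZA hZA (g + g')).choose_spec y hy hyZ,
      (c.exists_ψ hZ ZA hZA g).choose_spec y hy hyZ, (c.exists_ψ hZ ZA hZA g').choose_spec y hy hyZ,
      ← map_add, ← c.loc_add, sub_eq_zero]
    rfl
  map_smul' a g := by
    refine sub_eq_zero.1 (H0_pure hZ F _ fun y hy hyZ => ?_)
    rw [map_sub, germ_smul', (c.exists_ψ hZ ZA hZA (a • g)).choose_spec y hy hyZ,
      (c.exists_ψ hZ ZA hZA g).choose_spec y hy hyZ, sub_eq_zero]
    refine (congrArg _ (c.loc_smul hy a _)).trans ?_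
    exact stalkMap_smul (ZClos.rhoApp Z F) y _ _

theorem germ_psi (g : HSec ZA M) (y : X) (hy : y ∈ W) (hyZ : y ∉ Z) :
    ((ZClos.H0 Z).obj F).presheaf.germ W y hy (c.psi hZ ZA hZA g) =
      ZClos.rhoStalk Z F y (c.loc hy (g.1 ⟨c.P hy, fun h => hyZ ((hZA y hy).1 h)⟩)) :=
  (c.exists_ψ hZ ZA hZA g).choose_spec y hy hyZ

theorem psi_bijective : Function.Bijective (c.psi hZ ZA hZA) := by
  constructor
  · intro g g' h
    refine Subtype.ext (funext fun x => ?_)
    obtain ⟨⟨q, hq⟩, rfl⟩ : ∃ x' : {p : PrimeSpectrum A // p ∉ ZA}, x' = x := ⟨x, rfl⟩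
    obtain ⟨y, hy, rfl⟩ := c.exists_P q
    have hyZ : y ∉ Z := fun hc => hq ((hZA y hy).2 hc)
    refine c.loc_injective hy ((bijective_rhoStalk F hyZ).1 ?_)
    rw [← c.germ_psi hZ ZA hZA g y hy hyZ, h, c.germ_psi hZ ZA hZA g' y hy hyZ]
  · intro τ
    obtain ⟨W', hW', s, hoff, hs⟩ := exists_rep' F c.hW.isCompact τ
    let J : Ideal A :=
      { carrier := {a | X.basicOpen (c.ι a) ≤ W'}
        add_mem' := fun {a b} ha hb y hy => by
          have hyW : y ∈ W := X.basicOpen_le _ hy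
          by_contra hc
          have ha' : a ∈ (c.P hyW).asIdeal := by
            by_contra h; exact hc (ha ((c.notMem_P_iff hyW a).1 h))
          have hb' : b ∈ (c.P hyW).asIdeal := by
            by_contra h; exact hc (hb ((c.notMem_P_iff hyW b).1 h))
          exact (c.notMem_P_iff hyW (a + b)).2 hy (add_mem ha' hb')
        zero_mem' := by
          show X.basicOpen (c.ι 0) ≤ W'
          rw [map_zero, Scheme.basicOpen_zero]; exact bot_le
        smul_mem' := fun r a ha => by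
          show X.basicOpen (c.ι (r * a)) ≤ W'
          rw [map_mul, Scheme.basicOpen_mul]; exact inf_le_right.trans ha }
    have hJ : PrimeSpectrum.zeroLocus (J : Set A) ⊆ ZA := fun q hq => by
      obtain ⟨y, hy, rfl⟩ := c.exists_P q
      refine (hZA y hy).2 (hoff y hy fun hy' => ?_)
      obtain ⟨f, hf, hyf⟩ := c.hW.exists_basicOpen_le (⟨y, hy'⟩ : W') hy
      obtain ⟨a, rfl⟩ := c.hι.2 f
      exact (c.notMem_P_iff hy a).2 hyf (hq (show a ∈ J from hf))
    obtain ⟨σ, hσ⟩ := c.exists_fam (J := J) W' (fun a ha => ha) s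
    refine ⟨⟨fun x => σ.1 ⟨x.1, not_le_of_notMem ZA hJ x⟩, show _ ∈ HSec ZA M from ⟨J, hJ, σ, fun x => rfl⟩⟩,
      sub_eq_zero.1 (H0_pure hZ F _ fun y hy hyZ => ?_)⟩
    have hy' : y ∈ W' := by
      by_contra hc
      exact hyZ (hoff y hy hc)
    rw [map_sub, c.germ_psi hZ ZA hZA _ y hy hyZ, hσ y hy _ hy', ← hs y hy', sub_self]

/-- Finiteness of the sections of the closure is finiteness of the germ families. -/
theorem finite_iff : Module.Finite Γ(X, W) Γ((ZClos.H0 Z).obj F, W) ↔ Module.Finite A (HSec ZA M) := by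
  haveI : RingHomSurjective c.ι := ⟨c.hι.2⟩
  constructor
  · intro h
    let e := RingEquiv.ofBijective c.ι c.hι
    let g := Equiv.ofBijective _ (c.psi_bijective hZ ZA hZA)
    haveI : RingHomSurjective (e.symm.toRingHom) := ⟨e.symm.surjective⟩
    refine Module.Finite.of_surjective (σ := e.symm.toRingHom) (M := Γ((ZClos.H0 Z).obj F, W))
      { toFun := g.symm
        map_add' := fun x y => (c.psi_bijective hZ ZA hZA).1 (by
          rw [map_add (c.psi hZ ZA hZA)]
          exact (g.apply_symm_apply _).trans (congrArg₂ (· + ·) (g.apply_symm_apply x).symm (g.apply_symm_apply y).symm))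
        map_smul' := fun r x => (c.psi_bijective hZ ZA hZA).1 (by
          rw [map_smulₛₗ (c.psi hZ ZA hZA)]
          refine (g.apply_symm_apply _).trans ?_
          rw [show c.psi hZ ZA hZA (g.symm x) = x from g.apply_symm_apply x]
          exact congrArg (· • x) (e.apply_symm_apply r).symm) } g.symm.surjective
  · intro h
    exact Module.Finite.of_surjective (c.psi hZ ZA hZA) (c.psi_bijective hZ ZA hZA).2

omit hZ hZA in
/-- Coherent direct image off `T` gives finiteness of the families off an ideal of `T`. -/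
theorem finite_secs_of_resPush {J : Ideal A} (U : X.Opens) (hU : c.openOf J = W ⊓ U) [IsNoetherianRing A]
    (h : Module.Finite Γ(X, W) Γ((ZClos.resPush U).obj F, W)) : Module.Finite A (Secs J M) := by
  haveI := isNoetherianRing_of_isAffineOpen c.hW
  haveI : IsNoetherian Γ(X, W) Γ((ZClos.resPush U).obj F, W) := isNoetherian_of_isNoetherianRing_of_finite _ _
  have hle : U.ι ''ᵁ U.ι ⁻¹ᵁ W ≤ c.openOf J := by rw [hU, ZClos.ι_image_preimage, inf_comm]
  let G := (ZClos.resPush U).obj F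
  let Φ : Secs J M → Γ(G, W) := fun σ => res F hle (c.sec σ)
  have hΦ : ∀ (σ : Secs J M) (y : X) (hy : y ∈ c.openOf J),
      G.presheaf.germ W y (c.openOf_le hy) (Φ σ) = stalkMap (unit' U F) y
        (c.loc (c.openOf_le hy) (σ.1 ⟨c.P (c.openOf_le hy), (c.mem_openOf_iff (c.openOf_le hy)).1 hy⟩)) := by
    intro σ y hy
    have hyi : y ∈ U.ι ''ᵁ U.ι ⁻¹ᵁ W := mem_img.2 ⟨(hU ▸ hy : y ∈ W ⊓ U).2, c.openOf_le hy⟩
    rw [← c.germ_sec σ y hy, ← germ_res F hle (c.sec σ) y hyi, stalkMap_germ,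
      ← germ_res G (U.ι.image_preimage_le W) (Φ σ) y hyi]
    rfl
  have hext : ∀ a b : Γ(G, W), (∀ (y : X) (hy : y ∈ c.openOf J),
      G.presheaf.germ W y (c.openOf_le hy) a = G.presheaf.germ W y (c.openOf_le hy) b) → a = b := by
    intro a b hab
    refine eq_of_germ F (W := U.ι ''ᵁ U.ι ⁻¹ᵁ W) a b fun y hy => (bijective_stalkMap_unit U F y (mem_img.1 hy).1).1 ?_
    rw [stalkMap_germ, stalkMap_germ]
    have := hab y (hle hy)
    rw [← germ_res G (U.ι.image_preimage_le W) a y hy, ← germ_res G (U.ι.image_preimage_le W) b y hy] at this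
    exact this
  let L : Secs J M →ₛₗ[c.ι] Γ(G, W) :=
    { toFun := Φ
      map_add' := fun σ τ => hext _ _ fun y hy => by
        rw [map_add, hΦ _ y hy, hΦ _ y hy, hΦ _ y hy, ← map_add, ← c.loc_add]; rfl
      map_smul' := fun a σ => hext _ _ fun y hy => by
        rw [germ_smul', hΦ _ y hy, hΦ _ y hy, ← stalkMap_smul, ← c.loc_smul]; rfl }
  have hL : Function.Injective L := fun σ τ hστ => by
    refine Subtype.ext (funext fun x => ?_)
    obtain ⟨⟨q, hq⟩, rfl⟩ : ∃ x' : {p : PrimeSpectrum A // ¬ J ≤ p.asIdeal}, x' = x := ⟨x, rfl⟩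
    obtain ⟨y, hy, rfl⟩ := c.exists_P q
    have hy' : y ∈ c.openOf J := (c.mem_openOf_iff hy).2 hq
    refine c.loc_injective hy ((bijective_stalkMap_unit U F y (hU ▸ hy' : y ∈ W ⊓ U).2).1 ?_)
    rw [← hΦ σ y hy', ← hΦ τ y hy']
    exact congrArg _ hστ
  refine ⟨IsNoetherian.noetherian (⊤ : Submodule A (Secs J M)) (self := ?_)⟩
  refine ⟨fun S => ?_⟩
  haveI : RingHomSurjective c.ι := ⟨c.hι.2⟩
  exact Submodule.fg_of_fg_map_injective L hL (IsNoetherian.noetherian (S.map L))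

end closure

end Chart

end Groth.Agent.ZClosLib
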