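import Groth.Agent.ZClosLib.Colim
import Groth.Prelude.Def_ZClos

/-!
# The Z-closure: sections, stalks off `Z`, and the intrinsic criteria
-/

set_option autoImplicit false

universe u

open CategoryTheory CategoryTheory.Limits AlgebraicGeometry TopologicalSpace Opposite

namespace Groth.Agent.ZClosLib

variable {X : Scheme.{u}}

/-- A quasi-compact open of a locally Noetherian scheme is a Noetherian space. -/
theorem noetherianSpace_of_isCompact [IsLocallyNoetherian X] {V : X.Opens} (hV : IsCompact (V : Set X)) :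
    NoetherianSpace (V : Set X) := by
  haveI : CompactSpace (V : Scheme.{u}) := isCompact_iff_compactSpace.mp hV
  haveI : IsLocallyNoetherian (V : Scheme.{u}) := isLocallyNoetherian_of_isOpenImmersion V.ι
  haveI : IsNoetherian (V : Scheme.{u}) := ⟨⟩
  exact (inferInstance : NoetherianSpace (V : Scheme.{u}))

theorem isCompact_of_le [IsLocallyNoetherian X] {V : X.Opens} (hV : IsCompact (V : Set X)) (W : X.Opens)
    (hW : W ≤ V) : IsCompact (W : Set X) := by
  haveI := noetherianSpace_of_isCompact hV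
  have e : (W : Set X) = Subtype.val '' (Subtype.val ⁻¹' (W : Set X) : Set (V : Set X)) := by
    rw [Subtype.image_preimage_coe, Set.inter_eq_right.2 hW]
  rw [e]
  exact (NoetherianSpace.isCompact _).image continuous_subtype_val

variable {Z : Set X}

/-- Relatively closed subsets of a quasi-compact open contained in `Z` have closure inside `Z`. -/
theorem closure_subset [IsLocallyNoetherian X] (hZ : StableUnderSpecialization Z) {V : X.Opens}
    (hV : IsCompact (V : Set X)) {C : Set X} (hC : IsClosed C) (h : C ∩ V ⊆ Z) :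
    closure (C ∩ (V : Set X)) ⊆ Z := by
  haveI := noetherianSpace_of_isCompact hV
  haveI : QuasiSober (V : Set X) := V.2.isOpenEmbedding_subtypeVal.quasiSober
  obtain ⟨S, hSf, hScl, hSirr, hSU⟩ := NoetherianSpace.exists_finite_set_isClosed_irreducible
    (α := (V : Set X)) (s := Subtype.val ⁻¹' C) (hC.preimage continuous_subtype_val)
  have hmem : ∀ t ∈ S, ∃ g ∈ C ∩ (V : Set X), Subtype.val '' t ⊆ closure {g} := fun t ht => by
    refine ⟨(hSirr t ht).genericPoint.1, ⟨?_, (hSirr t ht).genericPoint.2⟩, ?_⟩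
    · have : (hSirr t ht).genericPoint ∈ t :=
        ((hSirr t ht).isGenericPoint_genericPoint (hScl t ht)).mem
      exact (hSU.symm ▸ Set.mem_sUnion.2 ⟨t, ht, this⟩ : _ ∈ Subtype.val ⁻¹' C)
    · rintro _ ⟨a, ha, rfl⟩
      exact specializes_iff_mem_closure.1
        ((((hSirr t ht).isGenericPoint_genericPoint (hScl t ht)).specializes ha).map continuous_subtype_val)
  choose g hg hgc using hmem
  haveI := hSf.to_subtype
  have hsub : C ∩ (V : Set X) ⊆ ⋃ t : S, closure {g t.1 t.2} := by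
    rintro x ⟨hxC, hxV⟩
    obtain ⟨t, ht, hxt⟩ := Set.mem_sUnion.1 ((Set.ext_iff.1 hSU ⟨x, hxV⟩).1 hxC)
    exact Set.mem_iUnion.2 ⟨⟨t, ht⟩, hgc t ht ⟨⟨x, hxV⟩, hxt, rfl⟩⟩
  intro z hz
  obtain ⟨t, ht⟩ := Set.mem_iUnion.1
    (closure_minimal hsub (isClosed_iUnion_of_finite fun _ => isClosed_closure) hz)
  exact hZ (specializes_iff_mem_closure.2 ht) (h (hg t.1 t.2))

/-- The member of the index attached to a dense open of a quasi-compact open. -/
theorem exists_cl [IsLocallyNoetherian X] (hZ : StableUnderSpecialization Z) {V : X.Opens}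
    (hV : IsCompact (V : Set X)) (W' : X.Opens) (h : ∀ y ∈ V, y ∉ W' → y ∈ Z) (T : ZClos.Cl Z) :
    ∃ T' : ZClos.Cl Z, T ≤ T' ∧ V ⊓ T'.U ≤ W' := by
  let T₁ : ZClos.Cl Z := ⟨⟨closure ((W' : Set X)ᶜ ∩ V), isClosed_closure⟩,
    closure_subset hZ hV W'.2.isClosed_compl fun y hy => h y hy.2 hy.1⟩
  refine ⟨T ⊔ T₁, le_sup_left, fun y hy => ?_⟩
  by_contra hyW
  exact hy.2 ((le_sup_right : T₁ ≤ T ⊔ T₁) (subset_closure ⟨hyW, hy.1⟩ : y ∈ (T₁.1 : Set X)))

theorem mem_U {T : ZClos.Cl Z} {y : X} (hy : y ∉ Z) : y ∈ T.U := fun h => hy (T.2 h)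

theorem mem_img {U V : X.Opens} {y : X} : y ∈ U.ι ''ᵁ U.ι ⁻¹ᵁ V ↔ y ∈ U ∧ y ∈ V := by
  rw [ZClos.ι_image_preimage]; exact Iff.rfl

/-- The unit of `j_*j^*`, with source displayed as `F`. -/
noncomputable def unit' (U : X.Opens) (F : X.Modules) : F ⟶ (ZClos.resPush U).obj F :=
  (ZClos.resPushUnit U).app F

/-- The unit is bijective on the stalks at points of the open. -/
theorem bijective_stalkMap_unit (U : X.Opens) (F : X.Modules) (y : X) (hy : y ∈ U) :
    Function.Bijective (stalkMap (unit' U F) y) := by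
  constructor
  · refine (injective_iff_map_eq_zero _).2 fun z hz => ?_
    obtain ⟨W, hyW, s, rfl⟩ := F.presheaf.exists_germ_eq z
    rw [stalkMap_germ] at hz
    rw [← map_zero (((ZClos.resPush U).obj F).presheaf.germ W y hyW).hom] at hz
    obtain ⟨W', hyW', i, i', e⟩ := ((ZClos.resPush U).obj F).presheaf.germ_eq y hyW hyW _ _ hz
    rw [map_zero] at e
    have hle : U.ι ''ᵁ U.ι ⁻¹ᵁ W' ≤ W := (U.ι.image_preimage_le W').trans (leOfHom i)
    have e' : res F hle s = 0 := by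
      rw [← res_res F (U.ι.image_preimage_le W) (U.ι.opensFunctor.map ((Opens.map U.ι.base).map i)).le s]
      exact e
    rw [← germ_res F hle s y (mem_img.2 ⟨hy, hyW'⟩), e', map_zero]
  · intro z
    obtain ⟨W, hyW, t, rfl⟩ := ((ZClos.resPush U).obj F).presheaf.exists_germ_eq z
    let W' := U.ι ''ᵁ U.ι ⁻¹ᵁ W
    have hyW' : y ∈ W' := mem_img.2 ⟨hy, hyW⟩
    refine ⟨F.presheaf.germ W' y hyW' t, ?_⟩
    refine (stalkMap_germ (unit' U F) y hyW' t).trans ?_
    refine Eq.trans ?_ (germ_res ((ZClos.resPush U).obj F) (U.ι.image_preimage_le W) t y hyW')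
    rfl

theorem stalkMap_unit_map (F : X.Modules) {T T' : ZClos.Cl Z} (f : T ⟶ T') (y : X)
    (z : F.presheaf.stalk y) :
    stalkMap (((ZClos.diagram Z).obj F).map f) y (stalkMap (ZClos.toDiagram Z F T) y z) =
      stalkMap (ZClos.toDiagram Z F T') y z := by
  rw [← stalkMap_comp_apply, ZClos.toDiagram_map]

theorem rhoStalk_eq (F : X.Modules) (T : ZClos.Cl Z) (y : X) (z : F.presheaf.stalk y) :
    ZClos.rhoStalk Z F y z =
      stalkMap (colimit.ι ((ZClos.diagram Z).obj F) T) y (stalkMap (ZClos.toDiagram Z F T) y z) := by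
  rw [← stalkMap_comp_apply, ← ZClos.rhoApp_eq]; rfl

/-- `ρ` is bijective on stalks outside `Z`. -/
theorem bijective_rhoStalk (F : X.Modules) {y : X} (hy : y ∉ Z) :
    Function.Bijective (ZClos.rhoStalk Z F y) := by
  constructor
  · refine (injective_iff_map_eq_zero _).2 fun z hz => ?_
    rw [rhoStalk_eq F ⊥] at hz
    obtain ⟨T, f, e⟩ := exists_stalk_zero (colimit.isColimit _) y _ hz
    rw [stalkMap_unit_map] at e
    exact (injective_iff_map_eq_zero _).1 (bijective_stalkMap_unit T.U F y (mem_U hy)).1 z e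
  · intro z
    obtain ⟨T, w, rfl⟩ := exists_stalk_rep (colimit.isColimit ((ZClos.diagram Z).obj F)) y z
    obtain ⟨v, rfl⟩ := (bijective_stalkMap_unit T.U F y (mem_U hy)).2 w
    exact ⟨v, rhoStalk_eq F T y v⟩

/-- The germ of the image in `H⁰` of a section of `F` over `V ∩ (X ∖ T)`. -/
theorem germ_ι (F : X.Modules) (T : ZClos.Cl Z) {V : X.Opens}
    (s : Γ(F, T.U.ι ''ᵁ T.U.ι ⁻¹ᵁ V)) (y : X) (hy : y ∈ T.U.ι ''ᵁ T.U.ι ⁻¹ᵁ V) :
    ((ZClos.H0 Z).obj F).presheaf.germ V y (mem_img.1 hy).2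
        ((colimit.ι ((ZClos.diagram Z).obj F) T).app V s) =
      ZClos.rhoStalk Z F y (F.presheaf.germ _ y hy s) := by
  refine ((stalkMap_germ (colimit.ι ((ZClos.diagram Z).obj F) T) y (mem_img.1 hy).2 s).symm).trans ?_
  rw [rhoStalk_eq F T]
  congr 1
  rw [stalkMap_germ,
    ← germ_res (((ZClos.diagram Z).obj F).obj T) (T.U.ι.image_preimage_le V) s y hy]
  rfl

variable [IsLocallyNoetherian X]

/-- Sections of `H⁰` over a quasi-compact open: germs of sections of `F` over the complement of a part of `Z`. -/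
theorem exists_rep' (F : X.Modules) {V : X.Opens} (hV : IsCompact (V : Set X))
    (σ : Γ((ZClos.H0 Z).obj F, V)) :
    ∃ (W : X.Opens) (hW : W ≤ V) (s : Γ(F, W)), (∀ y ∈ V, y ∉ W → y ∈ Z) ∧
      ∀ (y : X) (hy : y ∈ W),
        ((ZClos.H0 Z).obj F).presheaf.germ V y (hW hy) σ = ZClos.rhoStalk Z F y (F.presheaf.germ W y hy s) := by
  obtain ⟨T, s, rfl⟩ := exists_rep (colimit.isColimit ((ZClos.diagram Z).obj F)) (isCompact_of_le hV) σ
  refine ⟨T.U.ι ''ᵁ T.U.ι ⁻¹ᵁ V, T.U.ι.image_preimage_le V, s, fun y hy hy' => ?_, fun y hy => germ_ι F T s y hy⟩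
  by_contra hyZ
  exact hy' (mem_img.2 ⟨mem_U hyZ, hy⟩)

/-- A section of `F` off a part of `Z` gives a section of `H⁰`. -/
theorem exists_ext (hZ : StableUnderSpecialization Z) (F : X.Modules) {V : X.Opens}
    (hV : IsCompact (V : Set X)) (W : X.Opens) (h : ∀ y ∈ V, y ∉ W → y ∈ Z) (s : Γ(F, W)) :
    ∃ σ : Γ((ZClos.H0 Z).obj F, V), ∀ (y : X) (hyV : y ∈ V) (hy : y ∈ W), y ∉ Z →
      ((ZClos.H0 Z).obj F).presheaf.germ V y hyV σ = ZClos.rhoStalk Z F y (F.presheaf.germ W y hy s) := by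
  obtain ⟨T, -, hT⟩ := exists_cl hZ hV W h ⊥
  have hle : T.U.ι ''ᵁ T.U.ι ⁻¹ᵁ V ≤ W := fun y hy => hT ⟨(mem_img.1 hy).2, (mem_img.1 hy).1⟩
  refine ⟨(colimit.ι ((ZClos.diagram Z).obj F) T).app V (res F hle s), fun y hyV hy hyZ => ?_⟩
  rw [germ_ι F T _ y (mem_img.2 ⟨mem_U hyZ, hyV⟩), germ_res]

/-- A section of `H⁰` with zero germs outside `Z` is zero. -/
theorem H0_pure (hZ : StableUnderSpecialization Z) (F : X.Modules) {V : X.Opens}
    (σ : Γ((ZClos.H0 Z).obj F, V))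
    (h : ∀ (y : X) (hy : y ∈ V), y ∉ Z → ((ZClos.H0 Z).obj F).presheaf.germ V y hy σ = 0) : σ = 0 := by
  refine eq_of_local _ _ _ fun x hx => ?_
  obtain ⟨W, hW, hxW, hWV⟩ := exists_isAffineOpen_mem_and_subset (x := x) (U := V) hx
  replace hWV : W ≤ V := hWV
  refine ⟨W, hWV, hxW, ?_⟩
  show res _ hWV σ = res _ hWV 0
  rw [show res ((ZClos.H0 Z).obj F) hWV 0 = 0 from map_zero _]
  set τ := res ((ZClos.H0 Z).obj F) hWV σ with hτ
  obtain ⟨T, s, hs⟩ := exists_rep (colimit.isColimit ((ZClos.diagram Z).obj F)) (isCompact_of_le hW.isCompact) τ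
  let W₁ := T.U.ι ''ᵁ T.U.ι ⁻¹ᵁ W
  -- the open where the germs of `s` vanish
  let W₂ : X.Opens := ⟨{y | ∃ (W' : X.Opens) (hle : W' ≤ W₁), y ∈ W' ∧ res F hle s = 0},
    isOpen_iff_forall_mem_open.2 fun y ⟨W', hle, hy, e⟩ => ⟨W', fun z hz => ⟨W', hle, hz, e⟩, W'.2, hy⟩⟩
  have hoff : ∀ y ∈ W, y ∉ W₂ → y ∈ Z := fun y hy hy2 => by
    by_contra hyZ
    have hy1 : y ∈ W₁ := mem_img.2 ⟨mem_U hyZ, hy⟩
    have e : ((ZClos.H0 Z).obj F).presheaf.germ W y hy τ = ZClos.rhoStalk Z F y (F.presheaf.germ W₁ y hy1 s) :=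
      Eq.trans (congrArg _ hs.symm) (germ_ι F T s y hy1)
    rw [hτ, germ_res, h y (hWV hy) hyZ] at e
    have e0 : F.presheaf.germ W₁ y hy1 s = F.presheaf.germ W₁ y hy1 0 := by
      rw [map_zero]
      exact (bijective_rhoStalk F hyZ).1 (e.symm.trans (map_zero _).symm)
    obtain ⟨W', hyW', i, i', e'⟩ := F.presheaf.germ_eq y hy1 hy1 _ _ e0
    exact hy2 ⟨W', leOfHom i, hyW', e'.trans (map_zero _)⟩
  obtain ⟨T', hT', hle⟩ := exists_cl hZ hW.isCompact W₂ hoff T
  have hz : ((((ZClos.diagram Z).obj F).map (homOfLE hT')).app W s) = 0 := by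
    show (ZClos.resPushMapApp (ZClos.Cl.U_anti hT') F).app W s = 0
    rw [ZClos.resPushMapApp_app]
    refine (eq_of_local F (res F (ZClos.resPush_le (ZClos.Cl.U_anti hT') W) s) 0 fun y hy => ?_)
    obtain ⟨W', hle', hyW', e⟩ := hle ⟨(mem_img.1 hy).2, (mem_img.1 hy).1⟩
    refine ⟨W' ⊓ T'.U.ι ''ᵁ T'.U.ι ⁻¹ᵁ W, inf_le_right, ⟨hyW', hy⟩, ?_⟩
    rw [show res F _ 0 = 0 from map_zero _]
    rw [res_res, ← res_res F hle' (inf_le_left : W' ⊓ _ ≤ W'), e]
    exact map_zero _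
  rw [← hs]
  refine (ι_map (colimit.cocone ((ZClos.diagram Z).obj F)) (homOfLE hT') s).symm.trans ?_
  rw [hz]
  exact map_zero _

end Groth.Agent.ZClosLib
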