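import Groth.Agent.CommAlg6.PushComplMath
import Groth.Prelude.Def_EGA4b
import Groth.Prelude.Def_EGA4c

/-!
# Sections of the Z-closure of `M~` over an affine scheme, algebraically
-/

set_option autoImplicit false

universe u

namespace Groth.Agent.ZClosLib

open Groth.Agent.CommAlg6.PushCompl
open Groth.Agent.Pure6 (IsLocFrac)

variable {A : Type u} [CommRing A] (Z : Set (_root_.PrimeSpectrum A)) (M : Type u) [AddCommGroup M] [Module A M]

/-- Families of germs outside `Z`. -/
abbrev Off : Type u :=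
  ∀ x : {p : _root_.PrimeSpectrum A // p ∉ Z}, LocalizedModule x.1.asIdeal.primeCompl M

/-- Sections are restricted to a smaller open. -/
noncomputable def shrinkSecs {J K : Ideal A} (hKJ : K ≤ J) (σ : Secs J M) : Secs K M :=
  ⟨fun x => σ.1 ⟨x.1, fun h => x.2 (hKJ.trans h)⟩, fun p hp => by
    obtain ⟨r, s, _, hs, hr⟩ := σ.2 p (fun h => hp (hKJ.trans h))
    obtain ⟨k, hk, hkp⟩ := SetLike.not_le_iff_exists.1 hp
    refine ⟨k • r, k * s, K.mul_mem_right _ hk, fun h => (p.2.mem_or_mem h).elim hkp hs, fun q hq h => ?_⟩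
    have hsq : s ∉ q.asIdeal := fun hh => h (q.asIdeal.mul_mem_left _ hh)
    show curry σ.1 q _ = _
    rw [hr q _ hsq, LocalizedModule.mk_eq]
    exact ⟨1, by simp [Submonoid.smul_def, smul_smul, mul_comm]⟩⟩

theorem shrinkSecs_apply {J K : Ideal A} (hKJ : K ≤ J) (σ : Secs J M) (x) :
    (shrinkSecs M hKJ σ).1 x = σ.1 ⟨x.1, fun h => x.2 (hKJ.trans h)⟩ := rfl

theorem zeroLocus_mul_subset {J K : Ideal A} (hJ : PrimeSpectrum.zeroLocus (J : Set A) ⊆ Z)
    (hK : PrimeSpectrum.zeroLocus (K : Set A) ⊆ Z) :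
    PrimeSpectrum.zeroLocus ((J * K : Ideal A) : Set A) ⊆ Z := by
  rw [PrimeSpectrum.zeroLocus_mul]; exact Set.union_subset hJ hK

theorem not_le_of_notMem {J : Ideal A} (hJ : PrimeSpectrum.zeroLocus (J : Set A) ⊆ Z)
    (x : {p : PrimeSpectrum A // p ∉ Z}) : ¬ J ≤ x.1.asIdeal := fun h => x.2 (hJ h)

/-- Germ families which are sections off some closed subset inside `Z`. -/
def HSec : Submodule A (Off Z M) where
  carrier := {g | ∃ J : Ideal A, ∃ hJ : PrimeSpectrum.zeroLocus (J : Set A) ⊆ Z, ∃ σ : Secs J M,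
    ∀ x, g x = σ.1 ⟨x.1, not_le_of_notMem Z hJ x⟩}
  add_mem' := by
    rintro g g' ⟨J, hJ, σ, hσ⟩ ⟨K, hK, τ, hτ⟩
    refine ⟨J * K, zeroLocus_mul_subset Z hJ hK,
      shrinkSecs M (Ideal.mul_le_left : J * K ≤ J) σ + shrinkSecs M (Ideal.mul_le_right : J * K ≤ K) τ, fun x => ?_⟩
    rw [Pi.add_apply, hσ, hτ]
    rfl
  zero_mem' := ⟨⊤, by rw [Submodule.top_coe, PrimeSpectrum.zeroLocus_univ]; exact Set.empty_subset Z, 0,
    fun x => rfl⟩
  smul_mem' := by
    rintro c g ⟨J, hJ, σ, hσ⟩
    exact ⟨J, hJ, c • σ, fun x => by rw [Pi.smul_apply, hσ]; rfl⟩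

variable {Z M} {N P : Type u} [AddCommGroup N] [Module A N] [AddCommGroup P] [Module A P]

/-- The induced map. -/
noncomputable def mapH (φ : M →ₗ[A] N) : HSec Z M →ₗ[A] HSec Z N :=
  LinearMap.codRestrict (HSec Z N)
    ((LinearMap.pi fun x => (gmap φ x.1.asIdeal).comp (LinearMap.proj x)).comp (HSec Z M).subtype)
    (fun g => by
      obtain ⟨J, hJ, σ, hσ⟩ := g.2
      refine ⟨J, hJ, mapSecs J φ σ, fun x => ?_⟩
      show gmap φ x.1.asIdeal (g.1 x) = _
      rw [hσ, mapSecs_apply])

theorem mapH_apply (φ : M →ₗ[A] N) (g : HSec Z M) (x) :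
    (mapH φ g).1 x = gmap φ x.1.asIdeal (g.1 x) := rfl

theorem mapH_injective (φ : M →ₗ[A] N) (hφ : Function.Injective φ) :
    Function.Injective (mapH (Z := Z) φ) :=
  fun g g' h => Subtype.ext (funext fun x => gmap_injective φ hφ x.1.asIdeal (by
    rw [← mapH_apply, ← mapH_apply, h]))

theorem finite_H_of_injective [IsNoetherianRing A] (φ : M →ₗ[A] N) (hφ : Function.Injective φ)
    [Module.Finite A (HSec Z N)] : Module.Finite A (HSec Z M) :=
  haveI := isNoetherian_of_isNoetherianRing_of_finite A (HSec Z N)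
  Module.Finite.of_injective _ (mapH_injective φ hφ)

/-- A section with zero germs outside `Z` vanishes off a larger closed subset inside `Z`. -/
theorem exists_killing {J : Ideal A} (hJ : PrimeSpectrum.zeroLocus (J : Set A) ⊆ Z) (σ : Secs J M)
    (h : ∀ x : {p : PrimeSpectrum A // p ∉ Z}, σ.1 ⟨x.1, not_le_of_notMem Z hJ x⟩ = 0) :
    ∃ (K : Ideal A) (hKJ : K ≤ J), PrimeSpectrum.zeroLocus (K : Set A) ⊆ Z ∧ shrinkSecs M hKJ σ = 0 := by
  let S : Set A := {a | a ∈ J ∧ ∀ (q : PrimeSpectrum A) (hq : ¬ J ≤ q.asIdeal), a ∉ q.asIdeal → σ.1 ⟨q, hq⟩ = 0}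
  have hle : Ideal.span S ≤ J := Ideal.span_le.2 fun a ha => ha.1
  refine ⟨Ideal.span S, hle, fun q hq => ?_, Subtype.ext (funext fun x => ?_)⟩
  · by_contra hqZ
    obtain ⟨r, s, hsJ, hs, hr⟩ := σ.2 q (not_le_of_notMem Z hJ ⟨q, hqZ⟩)
    have h0 := (hr q _ hs).symm.trans (h ⟨q, hqZ⟩)
    rw [← LocalizedModule.zero_mk ⟨s, hs⟩, LocalizedModule.mk_eq] at h0
    obtain ⟨u, hu⟩ := h0
    simp only [smul_zero, Submonoid.smul_def, smul_smul] at hu
    refine fun_absurd (show (u : A) * s ∈ S from ⟨J.mul_mem_left _ hsJ, fun q' hq' hu' => ?_⟩)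
      (fun hmem => (q.2.mem_or_mem ((hq : Ideal.span S ≤ q.asIdeal) (Ideal.subset_span hmem))).elim u.2 hs)
    have hs' : s ∉ q'.asIdeal := fun hh => hu' (q'.asIdeal.mul_mem_left _ hh)
    have huq : (u : A) ∉ q'.asIdeal := fun hh => hu' (q'.asIdeal.mul_mem_right _ hh)
    refine (hr q' hq' hs').trans ?_
    rw [← LocalizedModule.zero_mk ⟨s, hs'⟩, LocalizedModule.mk_eq]
    refine ⟨⟨u, huq⟩, ?_⟩
    simp only [smul_zero, Submonoid.smul_def, smul_smul]
    exact hu
  · obtain ⟨a, ha, hax⟩ := Set.not_subset.1 fun hsub => x.2 (Ideal.span_le.2 hsub)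
    exact ha.2 _ _ hax
where
  fun_absurd {p : Prop} (h : p) (h' : p → False) : False := h' h

theorem ker_mapH_le (f : M →ₗ[A] N) (g : N →ₗ[A] P) (hf : Function.Injective f) (hfg : Function.Exact f g) :
    LinearMap.ker (mapH (Z := Z) g) ≤ LinearMap.range (mapH f) := by
  intro h hh
  obtain ⟨J, hJ, σ, hσ⟩ := h.2
  obtain ⟨K, hKJ, hKZ, hK⟩ := exists_killing hJ (mapSecs J g σ) fun x => by
    refine (mapSecs_apply J g σ _).trans ?_
    refine (congrArg (gmap g x.1.asIdeal) (hσ x).symm).trans ?_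
    exact congrFun (congrArg Subtype.val (LinearMap.mem_ker.1 hh)) x
  have hker : shrinkSecs N hKJ σ ∈ LinearMap.ker (mapSecs K g) := by
    refine LinearMap.mem_ker.2 (Subtype.ext (funext fun x => ?_))
    exact congrFun (congrArg Subtype.val hK) x
  obtain ⟨τ, hτ⟩ := ker_mapSecs_le K f g hf hfg hker
  refine ⟨⟨fun x => τ.1 ⟨x.1, not_le_of_notMem Z hKZ x⟩, show _ ∈ HSec Z M from ⟨K, hKZ, τ, fun x => rfl⟩⟩,
    Subtype.ext (funext fun x => ?_)⟩
  refine (mapH_apply f _ x).trans ?_
  refine ((mapSecs_apply K f τ ⟨x.1, not_le_of_notMem Z hKZ x⟩).symm.trans ?_)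
  rw [hτ]
  exact (hσ x).symm

theorem finite_H_of_exact (f : M →ₗ[A] N) (g : N →ₗ[A] P) (hf : Function.Injective f)
    (hfg : Function.Exact f g) [IsNoetherianRing A] [Module.Finite A (HSec Z M)] [Module.Finite A (HSec Z P)] :
    Module.Finite A (HSec Z N) := by
  haveI := isNoetherian_of_isNoetherianRing_of_finite A (HSec Z M)
  haveI := isNoetherian_of_isNoetherianRing_of_finite A (HSec Z P)
  have h1 : (LinearMap.ker (mapH (Z := Z) g)).FG :=
    Module.Finite.iff_fg.mp (Module.Finite.of_injective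
      (Submodule.inclusion (ker_mapH_le f g hf hfg)) (Submodule.inclusion_injective _))
  refine ⟨Submodule.fg_of_fg_map_of_fg_inf_ker (mapH g) ?_ (by rwa [top_inf_eq])⟩
  exact IsNoetherian.noetherian _

theorem finite_H_pi [IsNoetherianRing A] [Module.Finite A (HSec Z M)] (n : ℕ) :
    Module.Finite A (HSec Z (Fin n → M)) := by
  haveI := isNoetherian_of_isNoetherianRing_of_finite A (HSec Z M)
  refine Module.Finite.of_injective
    (LinearMap.pi fun i => mapH (Z := Z) (LinearMap.proj (R := A) (φ := fun _ : Fin n => M) i)) ?_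
  rw [injective_iff_map_eq_zero]
  intro σ hσ
  refine Subtype.ext (funext fun x => ?_)
  have h0 : ∀ i, gmap (LinearMap.proj (R := A) (φ := fun _ : Fin n => M) i) x.1.asIdeal (σ.1 x) = 0 :=
    fun i => congrFun (congrArg Subtype.val (congrFun hσ i)) x
  show σ.1 x = 0
  revert h0
  induction σ.1 x using LocalizedModule.induction_on with
  | h m s =>
    intro h0
    have h1 : ∀ i, ∃ u : x.1.asIdeal.primeCompl, (u : A) • m i = 0 := fun i => by
      have h := h0 i
      rw [gmap_mk, ← LocalizedModule.zero_mk s, LocalizedModule.mk_eq] at h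
      obtain ⟨u, hu⟩ := h
      simp only [smul_zero, Submonoid.smul_def, smul_smul] at hu
      exact ⟨u * s, by rw [Submonoid.coe_mul]; exact hu⟩
    choose u hu using h1
    rw [← LocalizedModule.zero_mk s, LocalizedModule.mk_eq]
    refine ⟨∏ i, u i, ?_⟩
    simp only [smul_zero, Submonoid.smul_def, smul_smul]
    funext i
    obtain ⟨c, hc⟩ := Finset.dvd_prod_of_mem u (Finset.mem_univ i)
    rw [Pi.smul_apply, Pi.zero_apply, hc, Submonoid.coe_mul,
      show ((u i : A) * (c : A)) * (s : A) = ((c : A) * (s : A)) * (u i : A) by ring, mul_smul, hu i, smul_zero]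

theorem subsingleton_H (h : ∀ q : PrimeSpectrum A, q ∉ Z → ∀ m : M, ∃ s ∉ q.asIdeal, s • m = 0) :
    Subsingleton (HSec Z M) := by
  refine ⟨fun σ τ => Subtype.ext (funext fun x => ?_)⟩
  haveI : Subsingleton (LocalizedModule x.1.asIdeal.primeCompl M) :=
    LocalizedModule.subsingleton_iff.mpr fun m => by
      obtain ⟨s, hs, hsm⟩ := h x.1 x.2 m
      exact ⟨s, hs, hsm⟩
  exact Subsingleton.elim _ _

section devissage

variable [IsNoetherianRing A]

theorem finite_H_killed (p : Ideal A) [p.IsPrime] [Module.Finite A (HSec Z (A ⧸ p))] (L : Type u) [AddCommGroup L]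
    [Module A L] [Module.Finite A L] (hreg : ∀ s ∉ p, IsSMulRegular L s)
    (hp : ∀ a ∈ p, ∀ n : L, a • n = 0) : Module.Finite A (HSec Z L) := by
  have htor : Module.IsTorsionBySet A L (p : Set A) := fun n a => hp a a.2 n
  letI := htor.module
  haveI : IsScalarTower A (A ⧸ p) L := htor.isScalarTower
  haveI : Module.Finite (A ⧸ p) L := Module.Finite.of_restrictScalars_finite A _ _
  haveI : Module.IsTorsionFree (A ⧸ p) L := .of_smul_eq_zero fun r n hrn => or_iff_not_imp_left.2 fun hr => by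
    obtain ⟨s, rfl⟩ := Ideal.Quotient.mk_surjective r
    exact (hreg s fun hs => hr (Ideal.Quotient.eq_zero_iff_mem.mpr hs)).right_eq_zero_of_smul hrn
  obtain ⟨n, f, hf⟩ := CAlgMisc2.exists_injective_pi (R := A ⧸ p) (M := L)
  haveI := finite_H_pi (Z := Z) (M := A ⧸ p) n
  exact finite_H_of_injective (f.restrictScalars A) hf

theorem finite_H_coprimary (p : Ideal A) [p.IsPrime] [Module.Finite A (HSec Z (A ⧸ p))] (k : ℕ) :
    ∀ (L : Type u) [AddCommGroup L] [Module A L] [Module.Finite A L], (∀ s ∉ p, IsSMulRegular L s) →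
      (∀ a ∈ p ^ k, ∀ n : L, a • n = 0) → Module.Finite A (HSec Z L) := by
  induction k with
  | zero =>
    intro L _ _ _ _ hk
    haveI := subsingleton_H (Z := Z) (M := L) fun q _ n =>
      ⟨1, (Ideal.ne_top_iff_one _).mp q.2.ne_top, hk 1 (by simp) n⟩
    infer_instance
  | succ k ih =>
    intro L _ _ _ hreg hk
    let N1 : Submodule A L :=
      { carrier := {n | ∀ a ∈ p, a • n = 0}
        add_mem' := fun hx hy a ha => by rw [smul_add, hx a ha, hy a ha, add_zero]
        zero_mem' := fun a _ => smul_zero a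
        smul_mem' := fun c x hx a ha => by rw [smul_comm, hx a ha, smul_zero] }
    haveI : Module.Finite A (HSec Z N1) := finite_H_killed p N1
      (fun s hs x y hxy => Subtype.ext (hreg s hs (congrArg Subtype.val hxy)))
      (fun a ha n => Subtype.ext (n.2 a ha))
    haveI : Module.Finite A (HSec Z (L ⧸ N1)) := by
      refine ih (L ⧸ N1) (fun s hs => ?_) (fun a ha n => ?_)
      · rw [isSMulRegular_iff_right_eq_zero_of_smul]
        intro n hn
        obtain ⟨n, rfl⟩ := Submodule.Quotient.mk_surjective _ n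
        rw [← Submodule.Quotient.mk_smul, Submodule.Quotient.mk_eq_zero] at hn
        rw [Submodule.Quotient.mk_eq_zero]
        exact fun a ha => mem_of_smul_mem hreg hs hn a ha
      · obtain ⟨n, rfl⟩ := Submodule.Quotient.mk_surjective _ n
        rw [← Submodule.Quotient.mk_smul, Submodule.Quotient.mk_eq_zero]
        intro c hc
        rw [smul_smul]
        exact hk _ (by rw [pow_succ']; exact Ideal.mul_mem_mul hc ha) n
    exact finite_H_of_exact N1.subtype N1.mkQ N1.injective_subtype (LinearMap.exact_subtype_mkQ N1)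

/-- Dévissage to the prime quotients. -/
theorem finite_H_of_associatedPrimes (hZ : StableUnderSpecialization Z) (k : ℕ) :
    ∀ (L : Type u) [AddCommGroup L] [Module A L] [Module.Finite A L],
    (associatedPrimes A L).ncard ≤ k →
    (∀ p : PrimeSpectrum A, p.asIdeal ∈ associatedPrimes A L → p ∉ Z → Module.Finite A (HSec Z (A ⧸ p.asIdeal))) →
    Module.Finite A (HSec Z L) := by
  induction k with
  | zero =>
    intro L _ _ _ hk _
    haveI : Subsingleton L := by
      by_contra hne
      rw [not_subsingleton_iff_nontrivial] at hne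
      have h := associatedPrimes.nonempty A L
      rw [(Set.ncard_eq_zero (associatedPrimes.finite A L)).mp (Nat.le_zero.mp hk)] at h
      exact Set.not_nonempty_empty h
    haveI := subsingleton_H (Z := Z) (M := L) fun q _ n =>
      ⟨1, (Ideal.ne_top_iff_one _).mp q.2.ne_top, Subsingleton.elim _ _⟩
    infer_instance
  | succ k ih =>
    intro L _ _ _ hk hfin
    by_cases hne : (associatedPrimes A L).Nonempty
    swap
    · exact ih L (by rw [Set.not_nonempty_iff_eq_empty.mp hne, Set.ncard_empty]; exact k.zero_le) hfin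
    obtain ⟨p, hp⟩ := (associatedPrimes.finite A L).exists_maximal hne
    haveI : p.IsPrime := IsAssociatedPrime.isPrime hp.1
    let N0 : Submodule A L :=
      { carrier := {m | ∃ n : ℕ, ∀ a ∈ p ^ n, a • m = 0}
        add_mem' := by
          rintro x y ⟨n, hn⟩ ⟨n', hn'⟩
          exact ⟨n + n', fun a ha => by
            rw [smul_add, hn a (Ideal.pow_le_pow_right (Nat.le_add_right n n') ha),
              hn' a (Ideal.pow_le_pow_right (Nat.le_add_left n' n) ha), add_zero]⟩
        zero_mem' := ⟨0, fun a _ => smul_zero a⟩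
        smul_mem' := by
          rintro c x ⟨n, hn⟩
          exact ⟨n, fun a ha => by rw [smul_comm, hn a ha, smul_zero]⟩ }
    obtain ⟨n0, hn0⟩ : ∃ n : ℕ, ∀ a ∈ p ^ n, ∀ m : N0, a • m = 0 := by
      obtain ⟨G, hG⟩ := (inferInstance : Module.Finite A N0).fg_top
      choose n hn using fun g : N0 => g.2
      refine ⟨G.sup n, fun a ha m => ?_⟩
      have hm : m ∈ Submodule.span A (G : Set N0) := hG ▸ Submodule.mem_top
      induction hm using Submodule.span_induction with
      | mem g hg => exact Subtype.ext (hn g a (Ideal.pow_le_pow_right (Finset.le_sup (f := n) hg) ha))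
      | zero => exact smul_zero a
      | add x y _ _ hx hy => rw [smul_add, hx, hy, add_zero]
      | smul c x _ hx => rw [smul_comm, hx, smul_zero]
    haveI : Module.Finite A (HSec Z N0) := by
      by_cases hpZ : (⟨p, inferInstance⟩ : PrimeSpectrum A) ∈ Z
      · haveI := subsingleton_H (Z := Z) (M := N0) fun q hq n => by
          obtain ⟨a, hap, haq⟩ := SetLike.not_le_iff_exists.mp fun hle : p ≤ q.asIdeal =>
            hq (hZ ((PrimeSpectrum.le_iff_specializes ⟨p, inferInstance⟩ q).1 hle) hpZ)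
          exact ⟨a ^ n0, fun h => haq (q.2.mem_of_pow_mem _ h), hn0 _ (Ideal.pow_mem_pow hap n0) n⟩
        infer_instance
      · haveI : Module.Finite A (HSec Z (A ⧸ p)) := hfin ⟨p, inferInstance⟩ hp.1 hpZ
        refine finite_H_coprimary p n0 N0 (fun s hs => ?_) hn0
        rw [isSMulRegular_iff_right_eq_zero_of_smul]
        intro m hm
        by_contra hm0
        obtain ⟨q, hq, hle⟩ := exists_le_isAssociatedPrime_of_isNoetherianRing A m hm0
        have hsq : s ∈ q := hle (Submodule.mem_colon_singleton.mpr hm)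
        have hpq : p ≤ q := fun a ha => hq.isPrime.mem_of_pow_mem n0 (hle
          (Submodule.mem_colon_singleton.mpr (hn0 _ (Ideal.pow_mem_pow ha n0) m)))
        exact hs (hp.2 (associatedPrimes.subset_of_injective N0.injective_subtype hq) hpq hsq)
    have hsub : associatedPrimes A (L ⧸ N0) ⊆ associatedPrimes A L \ {p} := by
      intro q hq
      obtain ⟨hqp, x, hx⟩ := isAssociatedPrime_iff.mp hq
      obtain ⟨m, rfl⟩ := Submodule.Quotient.mk_surjective _ x
      have hq' : ∀ z, z ∈ q ↔ z • m ∈ N0 := fun z => by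
        rw [hx, Submodule.mem_colon_singleton, Submodule.mem_bot, ← Submodule.Quotient.mk_smul,
          Submodule.Quotient.mk_eq_zero]
      have hnle : ¬ p ≤ q := fun hle => by
        have hmN : m ∈ N0 := by
          refine ⟨n0 + 1, fun a ha => ?_⟩
          rw [pow_succ] at ha
          refine Submodule.mul_induction_on ha (fun c hc d hd => ?_) (fun c d hc hd => by rw [add_smul, hc, hd, add_zero])
          rw [mul_smul]
          exact congrArg Subtype.val (hn0 c hc ⟨d • m, (hq' d).mp (hle hd)⟩)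
        exact hqp.ne_top ((Ideal.eq_top_iff_one q).mpr ((hq' 1).mpr (by rwa [one_smul])))
      obtain ⟨a, hap, haq⟩ := SetLike.not_le_iff_exists.mp hnle
      refine ⟨isAssociatedPrime_iff.mpr ⟨hqp, a ^ n0 • m, ?_⟩, fun h => hnle (Set.mem_singleton_iff.mp h).ge⟩
      ext z
      rw [Submodule.mem_colon_singleton, Submodule.mem_bot]
      constructor
      · intro hz
        rw [smul_comm]
        exact congrArg Subtype.val (hn0 _ (Ideal.pow_mem_pow hap n0) ⟨z • m, (hq' z).mp hz⟩)
      · intro hz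
        have h1 : z * a ^ n0 ∈ q := (hq' _).mpr (by rw [mul_smul, hz]; exact zero_mem _)
        exact (hqp.mem_or_mem h1).resolve_right fun h => haq (hqp.mem_of_pow_mem _ h)
    haveI : Module.Finite A (HSec Z (L ⧸ N0)) := by
      refine ih (L ⧸ N0) ?_ fun q hq => hfin q (hsub hq).1
      refine (Set.ncard_le_ncard hsub ((associatedPrimes.finite A L).subset Set.sdiff_subset)).trans ?_
      rw [Set.ncard_sdiff_singleton_of_mem hp.1]
      omega
    exact finite_H_of_exact N0.subtype N0.mkQ N0.injective_subtype (LinearMap.exact_subtype_mkQ N0)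

end devissage

section quotient

variable {p : Ideal A} [p.IsPrime]

/-- The value at the generic point of `A/p`, in the fraction field. -/
noncomputable def evalGen (hp : (⟨p, inferInstance⟩ : PrimeSpectrum A) ∉ Z) :
    HSec Z (A ⧸ p) →ₗ[A] FractionRing (A ⧸ p) :=
  have hk : kerPt A (A ⧸ p) ∉ Z := by
    rwa [show kerPt A (A ⧸ p) = ⟨p, inferInstance⟩ from PrimeSpectrum.ext (Ideal.mk_ker (I := p))]
  (LocalizedModule.lift (kerPt A (A ⧸ p)).asIdeal.primeCompl
    ((Algebra.linearMap (A ⧸ p) (FractionRing (A ⧸ p))).restrictScalars A) (fun s => by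
      rw [Module.End.isUnit_iff]
      have hs : algebraMap A (FractionRing (A ⧸ p)) (s : A) ≠ 0 := by
        rw [IsScalarTower.algebraMap_apply A (A ⧸ p) (FractionRing (A ⧸ p))]
        exact fun h0 => s.2 (RingHom.mem_ker.mpr
          (IsFractionRing.injective (A ⧸ p) (FractionRing (A ⧸ p)) (h0.trans (map_zero _).symm)))
      constructor
      · intro x y hxy
        simp only [Module.algebraMap_end_apply, Algebra.smul_def] at hxy
        exact mul_left_cancel₀ hs hxy
      · intro z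
        refine ⟨z / algebraMap A (FractionRing (A ⧸ p)) (s : A), ?_⟩
        rw [Module.algebraMap_end_apply, Algebra.smul_def, mul_div_cancel₀ z hs])).comp
    ((LinearMap.proj (⟨kerPt A (A ⧸ p), hk⟩ : {q : _root_.PrimeSpectrum A // q ∉ Z})).comp
      (HSec Z (A ⧸ p)).subtype)

theorem not_le_ker {J : Ideal A} (hJ : PrimeSpectrum.zeroLocus (J : Set A) ⊆ Z)
    (hp : (⟨p, inferInstance⟩ : PrimeSpectrum A) ∉ Z) : ¬ J ≤ (kerPt A (A ⧸ p)).asIdeal := by
  rw [show (kerPt A (A ⧸ p)).asIdeal = p from Ideal.mk_ker]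
  exact fun h => hp (hJ h)

theorem evalGen_eq (hp : (⟨p, inferInstance⟩ : PrimeSpectrum A) ∉ Z) {J : Ideal A}
    (hJ : PrimeSpectrum.zeroLocus (J : Set A) ⊆ Z) (g : HSec Z (A ⧸ p)) (σ : Secs J (A ⧸ p))
    (hσ : ∀ x, g.1 x = σ.1 ⟨x.1, not_le_of_notMem Z hJ x⟩) :
    evalGen hp g = evalLift J (not_le_ker hJ hp) σ := by
  exact congrArg _ (hσ _)

theorem evalGen_injective (hp : (⟨p, inferInstance⟩ : PrimeSpectrum A) ∉ Z) :
    Function.Injective (evalGen hp) := by
  rw [injective_iff_map_eq_zero]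
  intro g hg
  obtain ⟨J, hJ, σ, hσ⟩ := g.2
  rw [evalGen_eq hp hJ g σ hσ] at hg
  have : σ = 0 := evalLift_injective J Ideal.Quotient.mk_surjective _ (hg.trans (map_zero _).symm)
  refine Subtype.ext (funext fun x => ?_)
  rw [hσ, this]; rfl

/-- The sections over `A/p` are finite when the height one hull is. -/
theorem finite_H_quotient [IsNoetherianRing A] (hp : (⟨p, inferInstance⟩ : PrimeSpectrum A) ∉ Z)
    (hht : ∀ q ∈ Z, p ≤ q.asIdeal → (2 : ℕ∞) ≤ (q.asIdeal.map (Ideal.Quotient.mk p)).height)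
    (hfin : EGA4.HeightOneHullFinite (A ⧸ p)) : Module.Finite A (HSec Z (A ⧸ p)) := by
  obtain ⟨B, hB, hBfin⟩ := hfin
  haveI := hBfin
  haveI : Module.Finite A B := Module.Finite.trans (A ⧸ p) B
  haveI := isNoetherian_of_isNoetherianRing_of_finite A B
  have hmem : ∀ g : HSec Z (A ⧸ p), evalGen hp g ∈ B := fun g => by
    obtain ⟨J, hJ, σ, hσ⟩ := g.2
    rw [evalGen_eq hp hJ g σ hσ, ← SetLike.mem_coe, hB]
    obtain ⟨k, hk⟩ := (Set.ext_iff.mp (range_evalLift J Ideal.Quotient.mk_surjective (not_le_ker hJ hp))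
      (evalLift J (not_le_ker hJ hp) σ)).mp ⟨σ, rfl⟩
    intro P hP hPh
    haveI := hP
    let q : PrimeSpectrum A := ⟨P.comap (Ideal.Quotient.mk p), inferInstance⟩
    have hq : p ≤ q.asIdeal := fun a ha => by
      show Ideal.Quotient.mk p a ∈ P
      rw [Ideal.Quotient.eq_zero_iff_mem.2 ha]; exact P.zero_mem
    have hqZ : q ∉ Z := fun hc => by
      have h := hht q hc hq
      rw [Ideal.map_comap_of_surjective _ Ideal.Quotient.mk_surjective, hPh] at h
      exact absurd h (by decide)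
    obtain ⟨a, ha, haP⟩ := SetLike.not_le_iff_exists.1 fun hle : J ^ k ≤ q.asIdeal =>
      hqZ (hJ ((Ideal.IsPrime.le_of_pow_le (hP := q.2) hle)))
    obtain ⟨b, hb⟩ := hk a ha
    exact ⟨Ideal.Quotient.mk p a, haP, b, hb⟩
  haveI : IsNoetherian A (B.toSubmodule.restrictScalars A) := ‹IsNoetherian A B›
  refine Module.Finite.of_injective
    (LinearMap.codRestrict (B.toSubmodule.restrictScalars A) (evalGen hp) hmem) ?_
  exact fun g g' h => evalGen_injective hp (congrArg Subtype.val h)

/-- Conversely the height one hull is finite when the sections over the maximal `Z` are. -/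
theorem hullFinite_of_finite_H [IsNoetherianRing A]
    (hfin : Module.Finite A
      (HSec {q : PrimeSpectrum A | p ≤ q.asIdeal ∧ (2 : ℕ∞) ≤ (q.asIdeal.map (Ideal.Quotient.mk p)).height} (A ⧸ p))) :
    EGA4.HeightOneHullFinite (A ⧸ p) := by
  set Z₀ := {q : PrimeSpectrum A | p ≤ q.asIdeal ∧ (2 : ℕ∞) ≤ (q.asIdeal.map (Ideal.Quotient.mk p)).height} with hZ₀
  have hp : (⟨p, inferInstance⟩ : PrimeSpectrum A) ∉ Z₀ := by
    rintro ⟨-, h⟩
    rw [show (⟨p, inferInstance⟩ : PrimeSpectrum A).asIdeal = p from rfl, Ideal.map_quotient_self, Ideal.height_bot] at h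
    exact absurd h (by decide)
  let B : Subalgebra (A ⧸ p) (FractionRing (A ⧸ p)) :=
    { carrier := EGA4.heightOneHull (A ⧸ p)
      mul_mem' := fun {x y} hx hy P _ hP => by
        obtain ⟨s, hs, a, ha⟩ := hx P hP
        obtain ⟨t, ht, b, hb⟩ := hy P hP
        exact ⟨s * t, fun h => (Ideal.IsPrime.mem_or_mem ‹_› h).elim hs ht, a * b, by
          rw [map_mul, map_mul, ha, hb]; ring⟩
      one_mem' := fun P hP' _ => ⟨1, (Ideal.ne_top_iff_one P).mp hP'.ne_top, 1, by simp⟩
      add_mem' := fun {x y} hx hy P _ hP => by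
        obtain ⟨s, hs, a, ha⟩ := hx P hP
        obtain ⟨t, ht, b, hb⟩ := hy P hP
        exact ⟨s * t, fun h => (Ideal.IsPrime.mem_or_mem ‹_› h).elim hs ht, a * t + s * b, by
          rw [map_add, map_mul, map_mul, map_mul, ha, hb]; ring⟩
      zero_mem' := fun P hP' _ => ⟨1, (Ideal.ne_top_iff_one P).mp hP'.ne_top, 0, by rw [map_zero, mul_zero]⟩
      algebraMap_mem' := fun r P hP' _ => ⟨1, (Ideal.ne_top_iff_one P).mp hP'.ne_top, r, by
        rw [map_one, one_mul]⟩ }
  refine ⟨B, rfl, ?_⟩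
  haveI := hfin
  haveI : Module.Finite A (LinearMap.range (evalGen hp)) := Module.Finite.range _
  have hle : B.toSubmodule.restrictScalars A ≤ LinearMap.range (evalGen hp) := by
    intro f hf
    let D : Ideal (A ⧸ p) :=
      { carrier := {b | ∃ c, algebraMap (A ⧸ p) (FractionRing (A ⧸ p)) b * f = algebraMap _ _ c}
        add_mem' := fun {a b} ⟨c, hc⟩ ⟨d, hd⟩ => ⟨c + d, by rw [map_add, map_add, add_mul, hc, hd]⟩
        zero_mem' := ⟨0, by rw [map_zero, zero_mul]⟩
        smul_mem' := fun r a ⟨c, hc⟩ => ⟨r * c, by rw [smul_eq_mul, map_mul, map_mul, mul_assoc, hc]⟩ }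
    let J : Ideal A := D.comap (Ideal.Quotient.mk p)
    have hJ : PrimeSpectrum.zeroLocus (J : Set A) ⊆ Z₀ := by
      intro q hq
      replace hq : J ≤ q.asIdeal := hq
      have hpq : p ≤ q.asIdeal := fun a ha => hq (by
        show Ideal.Quotient.mk p a ∈ D
        rw [Ideal.Quotient.eq_zero_iff_mem.2 ha]; exact D.zero_mem)
      refine ⟨hpq, ?_⟩
      let P := q.asIdeal.map (Ideal.Quotient.mk p)
      have hcomap : P.comap (Ideal.Quotient.mk p) = q.asIdeal := by
        rw [Ideal.comap_map_of_surjective _ Ideal.Quotient.mk_surjective, ← RingHom.ker_eq_comap_bot, Ideal.mk_ker,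
          sup_eq_left.2 hpq]
      haveI : P.IsPrime := Ideal.map_isPrime_of_surjective Ideal.Quotient.mk_surjective (by rwa [Ideal.mk_ker])
      have hDP : D ≤ P := fun b hb => by
        obtain ⟨a, rfl⟩ := Ideal.Quotient.mk_surjective b
        exact Ideal.mem_map_of_mem _ (hq hb)
      by_contra hlt
      have hP1 : P.height ≤ 1 := Order.le_of_lt_add_one (by rw [one_add_one_eq_two]; exact not_le.1 hlt)
      rcases lt_or_eq_of_le hP1 with h | h
      · rw [Order.lt_one_iff] at h
        obtain ⟨⟨c, d⟩, hcd⟩ := IsLocalization.surj (nonZeroDivisors (A ⧸ p)) f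
        have hP0 : P = ⊥ := by
          by_contra hne
          have := Ideal.height_strict_mono_of_isPrime (I := (⊥ : Ideal (A ⧸ p))) (bot_lt_iff_ne_bot.mpr hne)
          rw [h] at this
          exact not_lt_zero this
        refine nonZeroDivisors.ne_zero d.2 ((Ideal.mem_bot).1 (hP0 ▸ hDP ⟨c, ?_⟩))
        rw [mul_comm]; exact hcd
      · obtain ⟨s, hs, a, ha⟩ := hf P h
        exact hs (hDP ⟨a, ha.symm⟩)
    have hcs : f ∈ cSub J (A ⧸ p) := ⟨1, fun a ha => by
      rw [pow_one] at ha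
      obtain ⟨c, hc⟩ := (ha : Ideal.Quotient.mk p a ∈ D)
      exact ⟨c, hc.symm⟩⟩
    obtain ⟨σ, hσ⟩ := (Set.ext_iff.mp (range_evalLift J Ideal.Quotient.mk_surjective (not_le_ker hJ hp)) f).mpr hcs
    exact ⟨⟨fun x => σ.1 ⟨x.1, not_le_of_notMem Z₀ hJ x⟩, show _ ∈ HSec Z₀ (A ⧸ p) from ⟨J, hJ, σ, fun x => rfl⟩⟩,
      (evalGen_eq hp hJ _ σ fun x => rfl).trans hσ⟩
  haveI := isNoetherian_of_isNoetherianRing_of_finite A (LinearMap.range (evalGen hp))
  haveI : Module.Finite A (B.toSubmodule.restrictScalars A) :=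
    Module.Finite.of_injective (Submodule.inclusion hle) (Submodule.inclusion_injective _)
  haveI : Module.Finite A B := ‹Module.Finite A (B.toSubmodule.restrictScalars A)›
  exact Module.Finite.of_restrictScalars_finite A (A ⧸ p) B

end quotient

end Groth.Agent.ZClosLib
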